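import Mathlib

/-!
# The arithmetic of the order of a CIT group with centralisers of involutions of order 64

If `g = 123 + Σ (64/h)(a-1)` over pairwise coprime odd `a`, each `h ∈ {2,4,8}` dividing `a - 1`, the
product of the `a`s divides `g`, is a multiple of 15, and `Σ (a-1)/(a h) < 51/64`, then `g = 315`.
-/

set_option autoImplicit false

namespace CfsgLib.PSL34

/-- The admissible data `(a, h)` of a family. -/
def famOK (l : List (ℕ × ℕ)) : Bool :=
  let P := (l.map Prod.fst).prod
  decide (P % 3 = 0) && decide (P % 5 = 0) &&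
    decide (64 * (l.map fun p => (p.1 - 1) / p.2 * (P / p.1)).sum < 51 * P)

/-- The check of one candidate: the last member is determined by the others and the quotient `t`. -/
def candOK (pre : List (ℕ × ℕ)) (hl t : ℕ) : Bool :=
  let P := (pre.map Prod.fst).prod
  let S := (pre.map fun p => 64 / p.2 * (p.1 - 1)).sum
  let co := 64 / hl
  let C := 123 + S - co
  let c := C / (t * P - co)
  !(decide (co < t * P) && decide (c * (t * P - co) = C) && decide (c % 2 = 1) && decide (3 ≤ c) &&
      pre.all (fun p => decide (p.1 < c) && decide (Nat.gcd p.1 c = 1)) && decide ((c - 1) % hl = 0) &&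
      famOK (pre ++ [(c, hl)]))
    || decide (123 + S + co * (c - 1) = 315)

theorem check_one : (List.range 74).all (fun t => [2, 4, 8].all fun hl => candOK [] hl t) = true := by
  decide +kernel

theorem check_two : (List.range 89).all (fun a => (List.range 89).all fun t =>
    decide (88 < a * t) || decide (a < 3) || decide (a % 2 = 0) || [2, 4, 8].all fun h =>
      decide ((a - 1) % h ≠ 0) || [2, 4, 8].all fun hl => candOK [(a, h)] hl t) = true := by
  decide +kernel

theorem check_three : (List.range 11).all (fun a => (List.range 39).all fun b => (List.range 8).all fun t =>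
    decide (113 < a * b * t) || decide (a < 3) || decide (a % 2 = 0) || decide (b ≤ a) || decide (b % 2 = 0) ||
      decide (Nat.gcd a b ≠ 1) || [2, 4, 8].all fun h => decide ((a - 1) % h ≠ 0) || [2, 4, 8].all fun h' =>
        decide ((b - 1) % h' ≠ 0) || [2, 4, 8].all fun hl => candOK [(a, h), (b, h')] hl t) = true := by
  decide +kernel

theorem mem_twofoureight {h : ℕ} (hh : h = 2 ∨ h = 4 ∨ h = 8) : h ∈ [2, 4, 8] := by
  rcases hh with rfl | rfl | rfl <;> simp

theorem use_cand {pre : List (ℕ × ℕ)} {hl t c g : ℕ} (hc : candOK pre hl t = true)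
    (hg : g = 123 + (pre.map fun p => 64 / p.2 * (p.1 - 1)).sum + 64 / hl * (c - 1))
    (hgt : g = t * (pre.map Prod.fst).prod * c) (hodd : c % 2 = 1) (h3 : 3 ≤ c)
    (hpre : ∀ p ∈ pre, p.1 < c ∧ Nat.gcd p.1 c = 1) (hl248 : hl = 2 ∨ hl = 4 ∨ hl = 8)
    (hdiv : (c - 1) % hl = 0) (hfam : famOK (pre ++ [(c, hl)]) = true) : g = 315 := by
  unfold candOK at hc
  generalize (pre.map fun p => 64 / p.2 * (p.1 - 1)).sum = S at hc hg
  generalize (pre.map Prod.fst).prod = P at hc hgt
  have hco : 64 / hl ≤ 32 := by rcases hl248 with rfl | rfl | rfl <;> norm_num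
  set co := 64 / hl with hcodef
  have hmul : co * (c - 1) + co = co * c := by
    obtain ⟨d, rfl⟩ : ∃ d, c = d + 1 := ⟨c - 1, by omega⟩
    rw [Nat.add_sub_cancel, mul_add, mul_one]
  have hlt : co < t * P := by
    by_contra hle
    push Not at hle
    have := Nat.mul_le_mul_right c hle
    omega
  have hC : c * (t * P - co) = 123 + S - co := by
    have h' : c * (t * P) = g := by rw [hgt]; ring
    have hcc : c * co = co * c := mul_comm _ _
    rw [Nat.mul_sub, h', hcc]
    omega
  have hceq : (123 + S - co) / (t * P - co) = c := by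
    rw [← hC, Nat.mul_div_cancel _ (by omega)]
  have hall : (pre.all fun p => decide (p.1 < c) && decide (Nat.gcd p.1 c = 1)) = true := by
    rw [List.all_eq_true]
    intro p hp
    simp [hpre p hp]
  simp only [hceq, hall, hfam, hC, hodd, hdiv, hlt, h3, decide_true, Bool.and_self, Bool.not_true,
    Bool.false_or, decide_eq_true_eq] at hc
  rw [hg]
  exact hc

variable {ι : Type*} (a h : ι → ℕ)

theorem four_bound {x y z w : ℕ} (hx : 3 ≤ x) (hy : 5 ≤ y) (hz : 7 ≤ z) (hw : 9 ≤ w) :
    32 * (x + y + z + w) + 123 < x * y * z * w := by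
  have h1 : 15 ≤ x * y := by nlinarith
  have h2 : 7 * (x + y + z) ≤ x * y * z := by
    have a1 : 35 * x ≤ x * y * z := by
      have : 35 ≤ y * z := by nlinarith
      nlinarith
    have a2 : 21 * y ≤ x * y * z := by
      have : 21 ≤ x * z := by nlinarith
      nlinarith
    have a3 : 15 * z ≤ x * y * z := by nlinarith
    omega
  have h3 : 105 ≤ x * y * z := by nlinarith
  nlinarith [Nat.mul_le_mul h3 hw]

theorem prod_bound [DecidableEq ι] : ∀ (n : ℕ) (s : Finset ι), s.card = n → 4 ≤ n →
    (∀ i ∈ s, a i % 2 = 1 ∧ 3 ≤ a i) → (∀ i ∈ s, ∀ j ∈ s, i ≠ j → a i ≠ a j) →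
    32 * ∑ i ∈ s, a i + 123 < ∏ i ∈ s, a i := by
  intro n
  induction n with
  | zero => intro s _ h4; omega
  | succ n ih =>
    intro s hs h4 hodd hinj
    rcases Nat.lt_or_ge n 4 with hlt | hge
    · have hn : n = 3 := by omega
      subst hn
      obtain ⟨m, hm, hmax⟩ := s.exists_max_image a (Finset.card_pos.1 (by omega))
      have hc3 : (s.erase m).card = 3 := by rw [Finset.card_erase_of_mem hm, hs]
      obtain ⟨x, y, z, hxy, hxz, hyz, he⟩ := Finset.card_eq_three.1 hc3
      have hx : x ∈ s := Finset.mem_of_mem_erase (he ▸ by simp : x ∈ s.erase m)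
      have hy : y ∈ s := Finset.mem_of_mem_erase (he ▸ by simp : y ∈ s.erase m)
      have hz : z ∈ s := Finset.mem_of_mem_erase (he ▸ by simp : z ∈ s.erase m)
      have hxm : x ≠ m := Finset.ne_of_mem_erase (he ▸ by simp : x ∈ s.erase m)
      have hym : y ≠ m := Finset.ne_of_mem_erase (he ▸ by simp : y ∈ s.erase m)
      have hzm : z ≠ m := Finset.ne_of_mem_erase (he ▸ by simp : z ∈ s.erase m)
      rw [← Finset.add_sum_erase s a hm, ← Finset.mul_prod_erase s a hm, he,
        Finset.sum_insert (by simp [hxy, hxz]), Finset.sum_insert (by simp [hyz]), Finset.sum_singleton,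
        Finset.prod_insert (by simp [hxy, hxz]), Finset.prod_insert (by simp [hyz]), Finset.prod_singleton]
      have o1 := hodd x hx; have o2 := hodd y hy; have o3 := hodd z hz; have o4 := hodd m hm
      have n1 := hinj x hx y hy hxy; have n2 := hinj x hx z hz hxz; have n3 := hinj y hy z hz hyz
      have m1 := hmax x hx; have m2 := hmax y hy; have m3 := hmax z hz
      have n4 := hinj x hx m hm hxm; have n5 := hinj y hy m hm hym; have n6 := hinj z hz m hm hzm
      have key : ∀ p q r : ℕ, p % 2 = 1 → q % 2 = 1 → r % 2 = 1 → 3 ≤ p → p < q → q < r → r < a m →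
          32 * (p + q + r + a m) + 123 < p * q * r * a m := fun p q r _ _ _ _ _ _ _ =>
        four_bound (by omega) (by omega) (by omega) (by omega)
      rcases lt_or_gt_of_ne n1 with c1 | c1 <;> rcases lt_or_gt_of_ne n2 with c2 | c2 <;>
        rcases lt_or_gt_of_ne n3 with c3 | c3 <;>
        first
          | omega
          | (have := key (a x) (a y) (a z) o1.1 o2.1 o3.1 o1.2 c1 c3 (by omega); linarith)
          | (have := key (a x) (a z) (a y) o1.1 o3.1 o2.1 o1.2 c2 c3 (by omega); linarith)
          | (have := key (a y) (a x) (a z) o2.1 o1.1 o3.1 o2.2 c1 c2 (by omega); linarith)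
          | (have := key (a y) (a z) (a x) o2.1 o3.1 o1.1 o2.2 c3 c2 (by omega); linarith)
          | (have := key (a z) (a x) (a y) o3.1 o1.1 o2.1 o3.2 c2 c1 (by omega); linarith)
          | (have := key (a z) (a y) (a x) o3.1 o2.1 o1.1 o3.2 c3 c1 (by omega); linarith)
    · obtain ⟨m, hm⟩ := Finset.card_pos.1 (show 0 < s.card by omega)
      have := ih (s.erase m) (by rw [Finset.card_erase_of_mem hm, hs]; rfl) hge
        (fun i hi => hodd i (Finset.mem_of_mem_erase hi))
        (fun i hi j hj => hinj i (Finset.mem_of_mem_erase hi) j (Finset.mem_of_mem_erase hj))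
      rw [← Finset.add_sum_erase s a hm, ← Finset.mul_prod_erase s a hm]
      have o4 := (hodd m hm).2
      have h5 := Nat.mul_le_mul_left (a m)
        (show 32 * ∑ i ∈ s.erase m, a i + 124 ≤ ∏ i ∈ s.erase m, a i by omega)
      have h6 := Nat.mul_le_mul_right (∑ i ∈ s.erase m, a i) o4
      generalize ∑ i ∈ s.erase m, a i = S at h5 h6 ⊢
      generalize ∏ i ∈ s.erase m, a i = Q at h5 ⊢
      nlinarith

/-- The hypotheses on the families. -/
structure Fams (s : Finset ι) (g : ℕ) : Prop where
  odd : ∀ i ∈ s, a i % 2 = 1 ∧ 3 ≤ a i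
  exp : ∀ i ∈ s, (h i = 2 ∨ h i = 4 ∨ h i = 8) ∧ (a i - 1) % h i = 0
  cop : ∀ i ∈ s, ∀ j ∈ s, i ≠ j → Nat.gcd (a i) (a j) = 1
  eq : g = 123 + ∑ i ∈ s, 64 / h i * (a i - 1)
  frac : (∑ i ∈ s, ((a i : ℚ) - 1) / (a i * h i)) < 51 / 64
  dvd : (∏ i ∈ s, a i) ∣ g
  three : 3 ∣ ∏ i ∈ s, a i
  five : 5 ∣ ∏ i ∈ s, a i

variable {a h}

theorem Fams.famOK_of [DecidableEq ι] {s : Finset ι} {g : ℕ} (hF : Fams a h s g) {l : List ι} (hl : l.Nodup)
    (hs : l.toFinset = s) : famOK (l.map fun i => (a i, h i)) = true := by
  have hP : ((l.map fun i => (a i, h i)).map Prod.fst).prod = ∏ i ∈ s, a i := by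
    rw [← hs, List.prod_toFinset _ hl, List.map_map]; rfl
  set P := ∏ i ∈ s, a i with hPdef
  have hsum : ((l.map fun i => (a i, h i)).map fun p => (p.1 - 1) / p.2 * (P / p.1)).sum =
      ∑ i ∈ s, (a i - 1) / h i * (P / a i) := by
    rw [← hs, List.sum_toFinset _ hl, List.map_map]; rfl
  have hlt : 64 * (∑ i ∈ s, (a i - 1) / h i * (P / a i)) < 51 * P := by
    have hpos : 0 < P := Finset.prod_pos fun i hi => by have := (hF.odd i hi).2; omega
    have hq : ((∑ i ∈ s, (a i - 1) / h i * (P / a i) : ℕ) : ℚ) =
        (P : ℚ) * ∑ i ∈ s, ((a i : ℚ) - 1) / (a i * h i) := by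
      rw [Nat.cast_sum, Finset.mul_sum]
      refine Finset.sum_congr rfl fun i hi => ?_
      have h1 : 3 ≤ a i := (hF.odd i hi).2
      have h2 : h i ≠ 0 := by rcases (hF.exp i hi).1 with e | e | e <;> omega
      rw [Nat.cast_mul, Nat.cast_div (Nat.dvd_of_mod_eq_zero (hF.exp i hi).2) (by exact_mod_cast h2),
        Nat.cast_div (Finset.dvd_prod_of_mem a hi) (by exact_mod_cast (by omega : a i ≠ 0)),
        Nat.cast_sub (by omega : 1 ≤ a i), Nat.cast_one]
      have h1' : (a i : ℚ) ≠ 0 := by exact_mod_cast (by omega : a i ≠ 0)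
      have h2' : (h i : ℚ) ≠ 0 := by exact_mod_cast h2
      field_simp
      rw [hPdef]
    have : ((64 * (∑ i ∈ s, (a i - 1) / h i * (P / a i)) : ℕ) : ℚ) < ((51 * P : ℕ) : ℚ) := by
      rw [Nat.cast_mul, Nat.cast_mul, hq]
      have hP' : (0 : ℚ) < (P : ℚ) := by exact_mod_cast hpos
      have := hF.frac
      push_cast
      nlinarith
    exact_mod_cast this
  simp only [famOK, hP, hsum]
  have e3 : P % 3 = 0 := by rw [hPdef]; exact Nat.mod_eq_zero_of_dvd hF.three
  have e5 : P % 5 = 0 := by rw [hPdef]; exact Nat.mod_eq_zero_of_dvd hF.five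
  simp [hlt, e3, e5]

theorem coeff_le {x : ℕ} (hx : x = 2 ∨ x = 4 ∨ x = 8) : 64 / x ≤ 32 := by
  rcases hx with rfl | rfl | rfl <;> norm_num

/-- The only possible value is `315`. -/
theorem Fams.eq_315 {s : Finset ι} {g : ℕ} (hF : Fams a h s g) : g = 315 := by
  classical
  have hg0 : 0 < g := by rw [hF.eq]; omega
  have hne : ∀ i ∈ s, ∀ j ∈ s, i ≠ j → a i ≠ a j := fun i hi j hj hij e => by
    have := hF.cop i hi j hj hij
    rw [e, Nat.gcd_self] at this
    have := (hF.odd j hj).2
    omega
  have hle : g ≤ 123 + 32 * ∑ i ∈ s, a i := by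
    rw [hF.eq, Finset.mul_sum]
    exact Nat.add_le_add_left (Finset.sum_le_sum fun i hi =>
      Nat.mul_le_mul (coeff_le (hF.exp i hi).1) (Nat.sub_le _ _)) _
  have hPg := Nat.le_of_dvd hg0 hF.dvd
  have hcard : s.card ≤ 3 := by
    by_contra hc
    push Not at hc
    have := prod_bound a s.card s rfl hc hF.odd hne
    omega
  obtain ⟨t, ht⟩ := hF.dvd
  rcases (by omega : s.card = 0 ∨ s.card = 1 ∨ s.card = 2 ∨ s.card = 3) with hc | hc | hc | hc
  · have := hF.three
    rw [Finset.card_eq_zero.1 hc, Finset.prod_empty] at this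
    norm_num at this
  · obtain ⟨i, rfl⟩ := Finset.card_eq_one.1 hc
    have oi := hF.odd i (by simp)
    have ei := hF.exp i (by simp)
    rw [Finset.prod_singleton] at ht
    rw [Finset.sum_singleton] at hle
    have htb : t < 74 := by
      by_contra hh
      push Not at hh
      have := Nat.mul_le_mul_left (a i) hh
      omega
    have hk := List.all_eq_true.1 check_one t (List.mem_range.2 htb)
    have hk' := List.all_eq_true.1 hk (h i) (mem_twofoureight ei.1)
    refine use_cand hk' ?_ ?_ oi.1 oi.2 (by simp) ei.1 ei.2 ?_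
    · rw [hF.eq]; simp
    · simp [ht, mul_comm]
    · simpa using hF.famOK_of (l := [i]) (by simp) (by simp)
  · obtain ⟨x, y, hxy, rfl⟩ := Finset.card_eq_two.1 hc
    have main : ∀ i j : ι, i ≠ j → ({i, j} : Finset ι) = {x, y} → a i < a j → g = 315 := by
      intro i j hij he hlt
      have hi : i ∈ ({x, y} : Finset ι) := he ▸ by simp
      have hj : j ∈ ({x, y} : Finset ι) := he ▸ by simp
      have oi := hF.odd i hi; have oj := hF.odd j hj
      have ei := hF.exp i hi; have ej := hF.exp j hj
      rw [← he, Finset.prod_pair hij] at ht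
      rw [← he, Finset.sum_pair hij] at hle
      have hat : a i * t ≤ 88 := by
        by_contra hh
        push Not at hh
        have := Nat.mul_le_mul_right (a j) (show 89 ≤ a i * t by omega)
        have h5' : 5 ≤ a j := by omega
        nlinarith
      have ht0 : t ≠ 0 := by rintro rfl; simp at ht; omega
      have ha : a i < 89 := by nlinarith [Nat.one_le_iff_ne_zero.2 ht0]
      have htb : t < 89 := by nlinarith
      have hk := List.all_eq_true.1 (List.all_eq_true.1 check_two (a i) (List.mem_range.2 ha)) t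
        (List.mem_range.2 htb)
      simp only [show ¬ 88 < a i * t by omega, show ¬ a i < 3 by omega, show ¬ a i % 2 = 0 by omega,
        decide_false, Bool.false_or] at hk
      have hk1 := List.all_eq_true.1 hk (h i) (mem_twofoureight ei.1)
      simp only [ei.2, ne_eq, not_true, decide_false, Bool.false_or] at hk1
      have hk2 := List.all_eq_true.1 hk1 (h j) (mem_twofoureight ej.1)
      refine use_cand hk2 ?_ ?_ oj.1 oj.2 ?_ ej.1 ej.2 ?_
      · rw [hF.eq, ← he, Finset.sum_pair hij]; simp; ring
      · simp [ht]; ring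
      · simp [hlt, hF.cop i hi j hj hij]
      · simpa using hF.famOK_of (l := [i, j]) (by simp [hij]) (by simpa using he)
    rcases lt_or_gt_of_ne (hne x (by simp) y (by simp) hxy) with c | c
    · exact main x y hxy rfl c
    · exact main y x hxy.symm (Finset.pair_comm y x) c
  · obtain ⟨x, y, z, hxy, hxz, hyz, rfl⟩ := Finset.card_eq_three.1 hc
    have main : ∀ i j k : ι, ({i, j, k} : Finset ι) = {x, y, z} → a i < a j → a j < a k → g = 315 := by
      intro i j k he hlt1 hlt2
      have hi : i ∈ ({x, y, z} : Finset ι) := he ▸ by simp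
      have hj : j ∈ ({x, y, z} : Finset ι) := he ▸ by simp
      have hk : k ∈ ({x, y, z} : Finset ι) := he ▸ by simp
      have hij : i ≠ j := fun e => (ne_of_lt hlt1) (by rw [e])
      have hik : i ≠ k := fun e => (ne_of_lt (hlt1.trans hlt2)) (by rw [e])
      have hjk : j ≠ k := fun e => (ne_of_lt hlt2) (by rw [e])
      have oi := hF.odd i hi; have oj := hF.odd j hj; have ok := hF.odd k hk
      have ei := hF.exp i hi; have ej := hF.exp j hj; have ek := hF.exp k hk
      have hgcd : Nat.gcd (a i) (a j) = 1 := hF.cop i hi j hj hij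
      rw [← he, Finset.prod_insert (by simp [hij, hik]), Finset.prod_pair hjk] at ht
      rw [← he, Finset.sum_insert (by simp [hij, hik]), Finset.sum_pair hjk] at hle
      have hb : a i * a j * t ≤ 113 := by
        by_contra hh
        push Not at hh
        have := Nat.mul_le_mul_right (a k) (show 114 ≤ a i * a j * t by omega)
        have h7 : 7 ≤ a k := by omega
        nlinarith
      have ht0 : t ≠ 0 := by rintro rfl; simp at ht; omega
      have ht1 := Nat.one_le_iff_ne_zero.2 ht0
      have h5j : 5 ≤ a j := by omega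
      have h15 : 15 ≤ a i * a j := Nat.mul_le_mul oi.2 h5j
      have ha : a i < 11 := by nlinarith
      have hbb : a j < 39 := by nlinarith
      have htb : t < 8 := by nlinarith
      have h1 := List.all_eq_true.1 (List.all_eq_true.1 (List.all_eq_true.1 check_three (a i)
        (List.mem_range.2 ha)) (a j) (List.mem_range.2 hbb)) t (List.mem_range.2 htb)
      simp only [show ¬ 113 < a i * a j * t by omega, show ¬ a i < 3 by omega, show ¬ a i % 2 = 0 by omega,
        show ¬ a j ≤ a i by omega, show ¬ a j % 2 = 0 by omega, hgcd, ne_eq, not_true, decide_false,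
        Bool.false_or] at h1
      have h2 := List.all_eq_true.1 h1 (h i) (mem_twofoureight ei.1)
      simp only [ei.2, not_true, decide_false, Bool.false_or] at h2
      have h3 := List.all_eq_true.1 h2 (h j) (mem_twofoureight ej.1)
      simp only [ej.2, not_true, decide_false, Bool.false_or] at h3
      have h4 := List.all_eq_true.1 h3 (h k) (mem_twofoureight ek.1)
      refine use_cand h4 ?_ ?_ ok.1 ok.2 ?_ ek.1 ek.2 ?_
      · rw [hF.eq, ← he, Finset.sum_insert (by simp [hij, hik]), Finset.sum_pair hjk]; simp; ring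
      · simp [ht]; ring
      · simp [hlt1.trans hlt2, hlt2, hF.cop i hi k hk hik, hF.cop j hj k hk hjk]
      · simpa using hF.famOK_of (l := [i, j, k]) (by simp [hij, hik, hjk]) (by simpa using he)
    have e1 : ({x, z, y} : Finset ι) = {x, y, z} := by rw [Finset.pair_comm z y]
    have e2 : ({y, x, z} : Finset ι) = {x, y, z} := Finset.insert_comm y x {z}
    have e3 : ({y, z, x} : Finset ι) = {x, y, z} := by rw [Finset.pair_comm z x]; exact e2
    have e4 : ({z, x, y} : Finset ι) = {x, y, z} := by rw [Finset.insert_comm z x]; exact e1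
    have e5 : ({z, y, x} : Finset ι) = {x, y, z} := by rw [Finset.pair_comm y x]; exact e4
    rcases lt_or_gt_of_ne (hne x (by simp) y (by simp) hxy) with c1 | c1 <;>
      rcases lt_or_gt_of_ne (hne x (by simp) z (by simp) hxz) with c2 | c2 <;>
      rcases lt_or_gt_of_ne (hne y (by simp) z (by simp) hyz) with c3 | c3
    all_goals first
      | exact main x y z rfl c1 c3
      | exact main x z y e1 c2 c3
      | exact main y x z e2 c1 c2
      | exact main y z x e3 c3 c2
      | exact main z x y e4 c2 c1
      | exact main z y x e5 c3 c1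
      | exact absurd (c1.trans c3) (not_lt_of_gt c2)
      | exact absurd (c3.trans c1) (not_lt_of_gt c2)

end CfsgLib.PSL34
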