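import Cfsg.Agent.PSL34.Uniqueness
import Cfsg.Agent.PSL34.Model
import Cfsg.Agent.L34.Subgroups
import Cfsg.Agent.S0249
import Cfsg.Agent.Classical.Linear.Simple
import Mathlib.GroupTheory.Transfer

/-!
# Recognition of `PSL(3,4)`

A simple group of order 20160 with a Sylow 2-subgroup generated by two elementary abelian subgroups
of order 16, the only ones it contains, whose normalisers are non-solvable of order 960, is
`PSL(3,4)`.
-/

set_option autoImplicit false
set_option linter.style.haveILetI false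
set_option linter.unusedSectionVars false

namespace CfsgLib.PSL34

open scoped Pointwise

universe u v

theorem isSolvable_of_dvd {Q : Type*} [Group Q] [Finite Q] {n p q : ℕ} (hp : p.Prime) (hq : q.Prime)
    (hn : Nat.card Q ∣ n) (h : ∀ r, r.Prime → r ∣ n → r = p ∨ r = q) : Group.IsSolvable Q :=
  CfsgLib.Chars.Apps.isSolvable_of_primeFactors_subset Q hp hq fun r hr hd => h r hr (hd.trans hn)

theorem prime_dvd_twenty {r : ℕ} (hr : r.Prime) (h : r ∣ 20) : r = 2 ∨ r = 5 := by
  have := Nat.le_of_dvd (by norm_num) h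
  interval_cases r <;> first | exact Or.inl rfl | exact Or.inr rfl | omega | (norm_num at hr; done)

theorem prime_dvd_fifteen {r : ℕ} (hr : r.Prime) (h : r ∣ 15) : r = 3 ∨ r = 5 := by
  have := Nat.le_of_dvd (by norm_num) h
  interval_cases r <;> first | exact Or.inl rfl | exact Or.inr rfl | omega | (norm_num at hr; done)

theorem prime_dvd_six {r : ℕ} (hr : r.Prime) (h : r ∣ 6) : r = 2 ∨ r = 3 := by
  have := Nat.le_of_dvd (by norm_num) h
  interval_cases r <;> first | exact Or.inl rfl | exact Or.inr rfl | omega | (norm_num at hr; done)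

/-- In a non-solvable group of order 60 the normaliser of a Sylow 2-subgroup has order 12. -/
theorem card_normalizer_four {Q : Type*} [Group Q] [Finite Q] (hQ : Nat.card Q = 60)
    (hns : ¬ Group.IsSolvable Q) (P : Sylow 2 Q) :
    Nat.card (Subgroup.normalizer ((P : Subgroup Q) : Set Q)) = 12 := by
  haveI : Fact (Nat.Prime 2) := ⟨Nat.prime_two⟩
  set N := Subgroup.normalizer ((P : Subgroup Q) : Set Q) with hN
  have hP : Nat.card (P : Subgroup Q) = 4 := by
    rw [P.card_eq_multiplicity, hQ]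
    have : Nat.factorization 60 2 = 2 := by
      rw [Nat.factorization_def _ Nat.prime_two,
        show (60 : ℕ) = 2 ^ 2 * 15 by norm_num, padicValNat.mul (by norm_num) (by norm_num),
        padicValNat.prime_pow, padicValNat.eq_zero_of_not_dvd (by norm_num)]
    rw [this]; rfl
  have hd : 4 ∣ Nat.card N := hP ▸ Subgroup.card_dvd_of_le Subgroup.le_normalizer
  have hmul := N.card_mul_index
  rw [hQ] at hmul
  obtain ⟨t, ht⟩ := hd
  have hti : t * N.index = 15 := by rw [ht] at hmul; nlinarith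
  have hcases : t = 1 ∨ t = 3 ∨ t = 5 ∨ t = 15 := by
    have hdt : t ∣ 15 := ⟨_, hti.symm⟩
    have := Nat.le_of_dvd (by norm_num) hdt
    interval_cases t <;> omega
  rcases hcases with rfl | rfl | rfl | rfl
  · exfalso
    have hNP : N = (P : Subgroup Q) :=
      (Subgroup.eq_of_le_of_card_ge Subgroup.le_normalizer (by rw [hP, ht])).symm
    have hcomm : IsMulCommutative (P : Subgroup Q) :=
      IsPGroup.isMulCommutative_of_card_eq_prime_sq (p := 2) (by rw [hP]; norm_num)
    have hle : Subgroup.normalizer ((P : Subgroup Q) : Set Q) ≤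
        Subgroup.centralizer ((P : Subgroup Q) : Set Q) := by
      rw [← hN, hNP]; exact Subgroup.le_centralizer _
    have hc := MonoidHom.ker_transferSylow_isComplement' P hle
    have hk := hc.card_mul
    rw [hP, hQ] at hk
    have hks : Group.IsSolvable (MonoidHom.transferSylow P hle).ker :=
      isSolvable_of_dvd Nat.prime_three Nat.prime_five (dvd_of_eq (by omega : _ = 15))
        (fun r hr h => prime_dvd_fifteen hr h)
    haveI := hks
    haveI : Group.IsSolvable (MonoidHom.transferSylow P hle).range :=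
      isSolvable_of_dvd (n := 4) Nat.prime_two Nat.prime_three
        ((Subgroup.card_subgroup_dvd_card _).trans (dvd_of_eq hP))
        (fun r hr h => Or.inl ((Nat.prime_dvd_prime_iff_eq hr Nat.prime_two).1
          (hr.dvd_of_dvd_pow (show r ∣ 2 ^ 2 from h))))
    exact hns (Group.isSolvable_of_ker_le_range (MonoidHom.transferSylow P hle).ker.subtype
      (MonoidHom.transferSylow P hle).rangeRestrict (by rw [MonoidHom.ker_rangeRestrict, Subgroup.range_subtype]))
  · exact ht
  · exfalso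
    have hi : N.index = 3 := by omega
    let π := MulAction.toPermHom Q (Q ⧸ N)
    haveI : Group.IsSolvable π.ker := by
      refine isSolvable_of_dvd Nat.prime_two Nat.prime_five ?_ (fun r hr h => prime_dvd_twenty hr h)
      have hle : π.ker ≤ N := fun g hg => by
        rw [MonoidHom.mem_ker] at hg
        have := congrArg (fun σ : Equiv.Perm (Q ⧸ N) => σ ((1 : Q) : Q ⧸ N)) hg
        exact smul_coe_one_eq_iff.1 (by simpa [π] using this)
      exact (Subgroup.card_dvd_of_le hle).trans (dvd_of_eq (by rw [ht]))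
    haveI : Group.IsSolvable π.range := by
      refine isSolvable_of_dvd Nat.prime_two Nat.prime_three ?_ (fun r hr h => prime_dvd_six hr h)
      refine (Subgroup.card_subgroup_dvd_card _).trans (dvd_of_eq ?_)
      rw [Nat.card_perm, show Nat.card (Q ⧸ N) = 3 from hi]; rfl
    exact hns (Group.isSolvable_of_ker_le_range π.ker.subtype π.rangeRestrict
      (by rw [MonoidHom.ker_rangeRestrict, Subgroup.range_subtype]))
  · exfalso
    have hi : N.index = 1 := by omega
    have hn : (P : Subgroup Q).Normal := Subgroup.normalizer_eq_top_iff.1 (Subgroup.index_eq_one.1 hi)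
    haveI := hn
    haveI : Group.IsSolvable (P : Subgroup Q) :=
      isSolvable_of_dvd Nat.prime_two Nat.prime_three (dvd_of_eq hP) (fun r hr h => Or.inl
        ((Nat.prime_dvd_prime_iff_eq hr Nat.prime_two).1 (hr.dvd_of_dvd_pow (show r ∣ 2 ^ 2 from h))))
    haveI : Group.IsSolvable (Q ⧸ (P : Subgroup Q)) := by
      refine isSolvable_of_dvd Nat.prime_three Nat.prime_five (dvd_of_eq ?_)
        (fun r hr h => prime_dvd_fifteen hr h)
      have := Subgroup.card_eq_card_quotient_mul_card_subgroup (P : Subgroup Q)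
      rw [hQ, hP] at this
      omega
    exact hns (Group.isSolvable_of_ker_le_range (P : Subgroup Q).subtype (QuotientGroup.mk' (P : Subgroup Q))
      (by rw [QuotientGroup.ker_mk', Subgroup.range_subtype]))

theorem mem_normalizer_iff_conj {G : Type*} [Group G] [Finite G] {V : Subgroup G} {g : G} :
    g ∈ Subgroup.normalizer (V : Set G) ↔ ∀ v ∈ V, g * v * g⁻¹ ∈ V :=
  ⟨fun hg v hv => (Subgroup.mem_normalizer_iff.1 hg v).1 hv, fun hg =>
    Subgroup.mem_normalizer_fintype (S := (V : Set G)) hg⟩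

/-- Parabolic data from the two elementary abelian subgroups of order 16 of a Sylow 2-subgroup. -/
theorem parab_of_normalizers {G : Type u} [Group G] [Finite G] (hG : Nat.card G = 20160)
    {T V₁ V₂ : Subgroup G} (hT : Nat.card T = 64) (le₁ : V₁ ≤ T) (le₂ : V₂ ≤ T) (hne : V₁ ≠ V₂)
    (e₁ : ∀ v ∈ V₁, v * v = 1) (e₂ : ∀ v ∈ V₂, v * v = 1)
    (c₁ : Nat.card V₁ = 16) (c₂ : Nat.card V₂ = 16)
    (hsup : ∀ t ∈ T, ∃ a ∈ V₁, ∃ b ∈ V₂, t = a * b)
    (honly : ∀ A ≤ T, (∀ a ∈ A, a * a = 1) → Nat.card A = 16 → A = V₁ ∨ A = V₂)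
    (n₁ : Nat.card (Subgroup.normalizer (V₁ : Set G)) = 960)
    (n₂ : Nat.card (Subgroup.normalizer (V₂ : Set G)) = 960)
    (s₁ : ¬ Group.IsSolvable (Subgroup.normalizer (V₁ : Set G)))
    (s₂ : ¬ Group.IsSolvable (Subgroup.normalizer (V₂ : Set G))) :
    Parab (Subgroup.normalizer (V₁ : Set G)) (Subgroup.normalizer (V₂ : Set G)) V₁ V₂ := by
  classical
  -- an element mapping `T` into itself permutes `V₁`, `V₂`
  have hconj : ∀ (A : Subgroup G) (g : G), A ≤ T → (∀ a ∈ A, a * a = 1) → Nat.card A = 16 →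
      (∀ t ∈ T, g * t * g⁻¹ ∈ T) →
      A.map (MulAut.conj g).toMonoidHom = V₁ ∨ A.map (MulAut.conj g).toMonoidHom = V₂ := by
    intro A g hA hAe hAc hg
    refine honly _ ?_ ?_ ?_
    · rintro _ ⟨a, ha, rfl⟩
      exact hg a (hA ha)
    · rintro _ ⟨a, ha, rfl⟩
      rw [← map_mul, hAe a ha, map_one]
    · rw [← hAc]
      exact (Nat.card_congr (A.equivMapOfInjective _ (MulAut.conj g).injective).toEquiv).symm
  have hperm : ∀ g : G, (∀ t ∈ T, g * t * g⁻¹ ∈ T) → ∀ {A B : Subgroup G}, A ≤ T → B ≤ T →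
      (∀ a ∈ A, a * a = 1) → (∀ a ∈ B, a * a = 1) → Nat.card A = 16 → Nat.card B = 16 → A ≠ B →
      (A = V₁ ∧ B = V₂ ∨ A = V₂ ∧ B = V₁) → g ∈ Subgroup.normalizer (A : Set G) →
      g ∈ Subgroup.normalizer (B : Set G) := by
    intro g hg A B hA hB hAe hBe hAc hBc hAB hor hgA
    have hmapA : A.map (MulAut.conj g).toMonoidHom = A := by
      refine Subgroup.eq_of_le_of_card_ge ?_ ?_
      · rintro _ ⟨a, ha, rfl⟩
        exact (Subgroup.mem_normalizer_iff.1 hgA a).1 ha
      · exact (Nat.card_congr (A.equivMapOfInjective _ (MulAut.conj g).injective).toEquiv).le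
    have hmapB : B.map (MulAut.conj g).toMonoidHom = B := by
      have hne' : B.map (MulAut.conj g).toMonoidHom ≠ A := fun e => hAB
        (Subgroup.map_injective (f := (MulAut.conj g).toMonoidHom) (MulAut.conj g).injective
          (hmapA.trans e.symm))
      rcases hor with ⟨rfl, rfl⟩ | ⟨rfl, rfl⟩
      · exact (hconj B g hB hBe hBc hg).resolve_left hne'
      · exact (hconj B g hB hBe hBc hg).resolve_right hne'
    rw [mem_normalizer_iff_conj]
    intro b hb
    rw [← hmapB]
    exact ⟨b, hb, rfl⟩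
  have hTn : ∀ t ∈ T, t ∈ Subgroup.normalizer (V₁ : Set G) ∧ t ∈ Subgroup.normalizer (V₂ : Set G) := by
    intro t ht
    obtain ⟨a, ha, b, hb, rfl⟩ := hsup t ht
    have ha1 : a ∈ Subgroup.normalizer (V₁ : Set G) := Subgroup.le_normalizer ha
    have hb2 : b ∈ Subgroup.normalizer (V₂ : Set G) := Subgroup.le_normalizer hb
    have hab : ∀ c ∈ T, ∀ x ∈ T, c * x * c⁻¹ ∈ T := fun c hc x hx =>
      T.mul_mem (T.mul_mem hc hx) (T.inv_mem hc)
    have ha2 := hperm a (hab a (le₁ ha)) le₁ le₂ e₁ e₂ c₁ c₂ hne (Or.inl ⟨rfl, rfl⟩) ha1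
    have hb1 := hperm b (hab b (le₂ hb)) le₂ le₁ e₂ e₁ c₂ c₁ hne.symm (Or.inr ⟨rfl, rfl⟩) hb2
    exact ⟨Subgroup.mul_mem _ ha1 hb1, Subgroup.mul_mem _ ha2 hb2⟩
  set N₁ := Subgroup.normalizer (V₁ : Set G) with hN₁
  set N₂ := Subgroup.normalizer (V₂ : Set G) with hN₂
  have hTN : T ≤ N₁ := fun t ht => (hTn t ht).1
  have hinterchar : ∀ g ∈ N₁, g ∈ N₂ ↔ ∀ t ∈ T, g * t * g⁻¹ ∈ T := by
    intro g hg
    constructor
    · intro hg2 t ht
      obtain ⟨a, ha, b, hb, rfl⟩ := hsup t ht
      rw [show g * (a * b) * g⁻¹ = g * a * g⁻¹ * (g * b * g⁻¹) by group]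
      exact T.mul_mem (le₁ ((Subgroup.mem_normalizer_iff.1 hg a).1 ha))
        (le₂ ((Subgroup.mem_normalizer_iff.1 hg2 b).1 hb))
    · intro hgT
      exact hperm g hgT le₁ le₂ e₁ e₂ c₁ c₂ hne (Or.inl ⟨rfl, rfl⟩) hg
  haveI hV1n : (V₁.subgroupOf N₁).Normal := Subgroup.normal_subgroupOf_of_le_normalizer le_rfl
  set V₁' := V₁.subgroupOf N₁ with hV₁'
  set T' := T.subgroupOf N₁ with hT'
  have hVT' : V₁' ≤ T' := fun x hx => le₁ hx
  let Q := N₁ ⧸ V₁'
  let π : N₁ →* Q := QuotientGroup.mk' V₁'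
  have hV16 : Nat.card V₁' = 16 := by
    rw [hV₁', Nat.card_congr (Subgroup.subgroupOfEquivOfLe (le₁.trans hTN)).toEquiv, c₁]
  have hQ : Nat.card Q = 60 := by
    have := Subgroup.card_eq_card_quotient_mul_card_subgroup V₁'
    rw [n₁, hV16] at this
    show Nat.card (N₁ ⧸ V₁') = 60
    omega
  have hQns : ¬ Group.IsSolvable Q := fun hQs => s₁ (by
    haveI : Group.IsSolvable V₁' := isSolvable_of_dvd (n := 16) Nat.prime_two Nat.prime_three
      (dvd_of_eq hV16) (fun r hr h => Or.inl ((Nat.prime_dvd_prime_iff_eq hr Nat.prime_two).1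
        (hr.dvd_of_dvd_pow (show r ∣ 2 ^ 4 from h))))
    haveI := hQs
    exact Group.isSolvable_of_ker_le_range V₁'.subtype π (by
      rw [QuotientGroup.ker_mk', Subgroup.range_subtype]))
  have hker : π.ker = V₁' := QuotientGroup.ker_mk' _
  have hπs : Function.Surjective π := QuotientGroup.mk'_surjective _
  set P0 := T'.map π with hP0
  have hcom : P0.comap π = T' := by rw [hP0, Subgroup.comap_map_eq_self (hker.le.trans hVT')]
  have hidxP : P0.index = 15 := by
    rw [← Subgroup.index_comap_of_surjective P0 hπs, hcom]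
    have := T'.card_mul_index
    rw [Nat.card_congr (Subgroup.subgroupOfEquivOfLe hTN).toEquiv, hT, n₁] at this
    omega
  have hP4 : Nat.card P0 = 4 := by
    have := P0.card_mul_index
    rw [hidxP, hQ] at this
    omega
  haveI : Fact (Nat.Prime 2) := ⟨Nat.prime_two⟩
  have hPp : IsPGroup 2 P0 := IsPGroup.of_card (n := 2) (by rw [hP4]; rfl)
  let P : Sylow 2 Q := hPp.toSylow (by rw [hidxP]; norm_num)
  have hPcoe : (P : Subgroup Q) = P0 := rfl
  have h12 := card_normalizer_four hQ hQns P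
  rw [hPcoe] at h12
  have hB : (Subgroup.normalizer (P0 : Set Q)).comap π = N₂.subgroupOf N₁ := by
    ext g
    rw [Subgroup.mem_comap, Subgroup.mem_subgroupOf, mem_normalizer_iff_conj, hinterchar g g.2]
    constructor
    · intro hg t ht
      have h1 := hg (π ⟨t, hTN ht⟩) ⟨⟨t, hTN ht⟩, ht, rfl⟩
      rw [← map_inv, ← map_mul, ← map_mul] at h1
      have h2 : g * ⟨t, hTN ht⟩ * g⁻¹ ∈ T' := hcom ▸ (Subgroup.mem_comap.2 h1)
      exact h2
    · rintro hg _ ⟨t, ht, rfl⟩
      rw [← map_inv, ← map_mul, ← map_mul]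
      exact ⟨_, hg _ ht, rfl⟩
  have hinter : Nat.card (N₁ ⊓ N₂ : Subgroup G) = 192 := by
    have hidx : (N₂.subgroupOf N₁).index = 5 := by
      rw [← hB, Subgroup.index_comap_of_surjective _ hπs]
      have := (Subgroup.normalizer (P0 : Set Q)).card_mul_index
      rw [h12, hQ] at this
      omega
    have := (N₂.subgroupOf N₁).card_mul_index
    rw [hidx, n₁, ← Subgroup.inf_subgroupOf_right N₂ N₁,
      Nat.card_congr (Subgroup.subgroupOfEquivOfLe (inf_le_right : N₂ ⊓ N₁ ≤ N₁)).toEquiv, inf_comm] at this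
    omega
  have hvinter : Nat.card (V₁ ⊓ V₂ : Subgroup G) = 4 := by
    choose fa hfa fb hfb hfab using fun t : T => hsup t t.2
    let f : T × (V₁ ⊓ V₂ : Subgroup G) → V₁ × V₂ := fun p =>
      (⟨fa p.1 * p.2, V₁.mul_mem (hfa _) p.2.2.1⟩, ⟨(p.2 : G)⁻¹ * fb p.1, V₂.mul_mem (V₂.inv_mem p.2.2.2) (hfb _)⟩)
    have hf : Function.Bijective f := by
      constructor
      · rintro ⟨t, x⟩ ⟨t', x'⟩ e
        have e1 : fa t * (x : G) = fa t' * x' := congrArg (fun p : V₁ × V₂ => (p.1 : G)) e
        have e2 : (x : G)⁻¹ * fb t = (x' : G)⁻¹ * fb t' := congrArg (fun p : V₁ × V₂ => (p.2 : G)) e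
        have et : t = t' := Subtype.ext (by
          calc (t : G) = fa t * (x : G) * ((x : G)⁻¹ * fb t) := by rw [hfab t]; group
            _ = fa t' * (x' : G) * ((x' : G)⁻¹ * fb t') := by rw [e1, e2]
            _ = t' := by rw [hfab t']; group)
        subst et
        exact Prod.ext rfl (Subtype.ext (mul_left_cancel e1))
      · rintro ⟨a, b⟩
        have hm : (a : G) * b ∈ T := T.mul_mem (le₁ a.2) (le₂ b.2)
        set t : T := ⟨_, hm⟩ with ht
        have he : (fa t)⁻¹ * a = fb t * (b : G)⁻¹ := by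
          rw [inv_mul_eq_iff_eq_mul, ← mul_assoc, ← hfab t, ht]
          group
        refine ⟨(t, ⟨(fa t)⁻¹ * a, V₁.mul_mem (V₁.inv_mem (hfa _)) a.2, by
          rw [he]; exact V₂.mul_mem (hfb _) (V₂.inv_mem b.2)⟩), Prod.ext (Subtype.ext ?_) (Subtype.ext ?_)⟩
        · exact mul_inv_cancel_left _ _
        · show ((fa t)⁻¹ * (a : G))⁻¹ * fb t = b
          rw [he]; group
    have := Nat.card_eq_of_bijective f hf
    rw [Nat.card_prod, Nat.card_prod, hT, c₁, c₂] at this
    omega
  exact {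
    card_G := hG, card_p₁ := n₁, card_p₂ := n₂, card_v₁ := c₁, card_v₂ := c₂, exp₁ := e₁, exp₂ := e₂
    norm₁ := fun g hg v hv => (Subgroup.mem_normalizer_iff.1 hg v).1 hv
    norm₂ := fun g hg v hv => (Subgroup.mem_normalizer_iff.1 hg v).1 hv
    le₁₁ := Subgroup.le_normalizer, le₂₂ := Subgroup.le_normalizer
    le₁₂ := fun v hv => (hTn v (le₁ hv)).2
    le₂₁ := fun v hv => (hTn v (le₂ hv)).1
    ns₁ := s₁, ns₂ := s₂, inter := hinter, vinter := hvinter }

theorem card_center_SL_three {F : Type u} [Field F] [Fintype F] (hF : Fintype.card F = 4) :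
    Nat.card (Subgroup.center (Matrix.SpecialLinearGroup (Fin 3) F)) = 3 := by
  rw [Nat.card_congr (Matrix.SpecialLinearGroup.center_equiv_rootsOfUnity
    (n := Fin 3) (R := F)).toEquiv]
  show Nat.card (rootsOfUnity (max (Fintype.card (Fin 3)) 1) F) = 3
  rw [Fintype.card_fin, show max 3 1 = 3 from rfl]
  have hall : rootsOfUnity 3 F = ⊤ := by
    refine eq_top_iff.2 fun x _ => ?_
    rw [mem_rootsOfUnity, ← Units.val_inj, Units.val_pow_eq_pow_val, Units.val_one]
    have := FiniteField.pow_card_sub_one_eq_one (x : F) x.ne_zero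
    rwa [hF] at this
  rw [hall, Subgroup.card_top, Nat.card_units, Nat.card_eq_fintype_card, hF]

theorem card_PSL {F : Type u} [Field F] [Fintype F] (hF : Fintype.card F = 4) :
    Nat.card (Matrix.ProjectiveSpecialLinearGroup (Fin 3) F) = 20160 := by
  have h := Subgroup.card_eq_card_quotient_mul_card_subgroup
    (Subgroup.center (Matrix.SpecialLinearGroup (Fin 3) F))
  rw [card_SL_three hF, card_center_SL_three hF] at h
  show Nat.card (Matrix.SpecialLinearGroup (Fin 3) F ⧸ _) = _
  omega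

/-- `PSL(3,4)` has such parabolic subgroups. -/
theorem exists_parab {F : Type u} [Field F] [Fintype F] (hF : Fintype.card F = 4) :
    ∃ P₁ P₂ V₁ V₂ : Subgroup (Matrix.ProjectiveSpecialLinearGroup (Fin 3) F), Parab P₁ P₂ V₁ V₂ := by
  classical
  obtain ⟨D, h1, h2⟩ := CfsgLib.L34.exists_data hF
  haveI : Finite (Matrix.ProjectiveSpecialLinearGroup (Fin 3) F) := inferInstance
  have hN : ∀ A B : Subgroup (Matrix.ProjectiveSpecialLinearGroup (Fin 3) F),
      CfsgLib.L34.HasComplementData A B → Nat.card (Subgroup.normalizer (A : Set (Matrix.ProjectiveSpecialLinearGroup (Fin 3) F))) = 960 ∧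
      ¬ Group.IsSolvable (Subgroup.normalizer (A : Set (Matrix.ProjectiveSpecialLinearGroup (Fin 3) F))) := by
    rintro A B ⟨-, hA, S, ⟨eS⟩, hn, hdis, hN, -, -⟩
    have hS : Nat.card S = 60 := by
      obtain ⟨e⟩ := CfsgLib.L34.sl2_equiv hF
      rw [Nat.card_congr eS.toEquiv, ← Nat.card_congr e.toEquiv, CfsgLib.L34.sl2_card hF]
    have hSN : S ≤ Subgroup.normalizer (A : Set (Matrix.ProjectiveSpecialLinearGroup (Fin 3) F)) := fun s hs =>
      mem_normalizer_iff_conj.2 (hn s hs)
    constructor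
    · let f : S × A → Subgroup.normalizer (A : Set (Matrix.ProjectiveSpecialLinearGroup (Fin 3) F)) :=
        fun p => ⟨p.1 * p.2, Subgroup.mul_mem _ (hSN p.1.2) (Subgroup.le_normalizer p.2.2)⟩
      have hf : Function.Bijective f := by
        constructor
        · rintro ⟨s, a⟩ ⟨s', a'⟩ e
          have e' : (s : Matrix.ProjectiveSpecialLinearGroup (Fin 3) F) * a = s' * a' := congrArg Subtype.val e
          have h3 : (s' : Matrix.ProjectiveSpecialLinearGroup (Fin 3) F)⁻¹ * s = a' * (a : Matrix.ProjectiveSpecialLinearGroup (Fin 3) F)⁻¹ := by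
            rw [inv_mul_eq_iff_eq_mul, ← mul_assoc, ← e', mul_inv_cancel_right]
          have h4 := hdis _ (h3 ▸ A.mul_mem a'.2 (A.inv_mem a.2)) (S.mul_mem (S.inv_mem s'.2) s.2)
          have hs : s' = s := Subtype.ext (inv_mul_eq_one.1 h4)
          subst hs
          exact Prod.ext rfl (Subtype.ext (mul_left_cancel e'))
        · rintro ⟨q, hq⟩
          obtain ⟨s, hs, a, ha, e⟩ := hN q (mem_normalizer_iff_conj.1 hq)
          exact ⟨(⟨s, hs⟩, ⟨a, ha⟩), Subtype.ext e.symm⟩
      rw [← Nat.card_eq_of_bijective f hf, Nat.card_prod, hS, hA]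
    · intro hsol
      haveI := hsol
      haveI : Group.IsSolvable S := Group.isSolvable_of_isSolvable_injective (Subgroup.inclusion_injective hSN)
      haveI : Group.IsSolvable (Matrix.ProjectiveSpecialLinearGroup (Fin 2) F) :=
        Group.isSolvable_of_surjective (f := eS.toMonoidHom) eS.surjective
      haveI hsimp : IsSimpleGroup (Matrix.ProjectiveSpecialLinearGroup (Fin 2) F) :=
        CfsgLib.Classical.Linear.isSimpleGroup_psl_fin le_rfl (fun _ => by rw [Nat.card_eq_fintype_card, hF])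
      have hcomm := IsSimpleGroup.comm_iff_isSolvable.2 ‹Group.IsSolvable (Matrix.ProjectiveSpecialLinearGroup (Fin 2) F)›
      have hc60 : Nat.card (Matrix.ProjectiveSpecialLinearGroup (Fin 2) F) = 60 := by
        rw [← Nat.card_congr eS.toEquiv, hS]
      letI : CommGroup (Matrix.ProjectiveSpecialLinearGroup (Fin 2) F) :=
        { (inferInstance : Group (Matrix.ProjectiveSpecialLinearGroup (Fin 2) F)) with mul_comm := hcomm }
      have hprime := IsSimpleGroup.prime_card (α := Matrix.ProjectiveSpecialLinearGroup (Fin 2) F)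
      rw [hc60] at hprime
      norm_num at hprime
  obtain ⟨n1, s1⟩ := hN _ _ h1
  obtain ⟨n2, s2⟩ := hN _ _ h2
  have hne : D.A₁ ≠ D.A₂ := by
    intro e
    have hle : D.U ≤ D.A₁ := fun p hp => by
      obtain ⟨a, ha, b, hb, rfl⟩ := D.sup_eq p hp
      exact D.A₁.mul_mem ha (e ▸ hb)
    have := Subgroup.card_le_of_le hle
    rw [D.card_U, h1.2.1] at this
    norm_num at this
  exact ⟨_, _, _, _, parab_of_normalizers (card_PSL hF) D.card_U D.le₁ D.le₂ hne h1.1 h2.1 h1.2.1 h2.2.1
    D.sup_eq (fun A hA he hc => D.cases A hA he hc) n1 n2 s1 s2⟩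

/-- A simple group of order 20160 with parabolic subgroups `2⁴:A₅` is `PSL(3,4)`. -/
theorem nonempty_mulEquiv_PSL_three_four {G : Type v} [Group G] [Finite G] [IsSimpleGroup G]
    {P₁ P₂ V₁ V₂ : Subgroup G} (h : Parab P₁ P₂ V₁ V₂) {F : Type u} [Field F] [Fintype F]
    (hF : Fintype.card F = 4) : Nonempty (G ≃* Matrix.ProjectiveSpecialLinearGroup (Fin 3) F) := by
  haveI : IsSimpleGroup (Matrix.ProjectiveSpecialLinearGroup (Fin 3) F) := Cfsg.Agent.S0249.result 3 le_rfl
  obtain ⟨Q₁, Q₂, W₁, W₂, h'⟩ := exists_parab (F := F) hF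
  exact nonempty_mulEquiv_of_parab h h'

end CfsgLib.PSL34
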