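import Cfsg.Agent.PSL34.CITOdd
import Cfsg.Agent.PSL34.OrderArith
import Cfsg.Agent.PSL34.Recognise
import Mathlib.GroupTheory.Sylow

/-!
# The order of a CIT group with parabolics `2⁴:A₅`, and recognition of `PSL(3,4)`

Counting the pairs of involutions gives `|G : T| = 123 + Σ (64/h)(a-1)`, whence `|G| = 20160`.
-/

set_option autoImplicit false
set_option linter.style.haveILetI false
set_option linter.unusedSectionVars false

namespace CfsgLib.PSL34

open CfsgLib.CITThreePrime

universe u v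

/-- The conjugates of the centraliser of `x`. -/
def centOrbit {G : Type*} [Group G] (x : G) : Set (Subgroup G) := Set.range fun g : G => cent (g * x * g⁻¹)

namespace CITData

variable {G : Type*} [Group G] [Finite G] {T V₁ V₂ : Subgroup G} (h : CITData T V₁ V₂)
include h

theorem exists_inverting_of_even {p : ℕ} (hp : p.Prime) (hp2 : p ≠ 2) {Y : Subgroup G}
    (hY : Nat.card Y = p) {y : G} (hy : y ∈ Y) (hy1 : y ≠ 1) {M : Subgroup G}
    (hM : M ≤ Subgroup.normalizer (Y : Set G)) (heven : 2 ∣ Nat.card M) : RealOdd y := by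
  haveI : Fact p.Prime := ⟨hp⟩
  haveI : Fact (Nat.Prime 2) := ⟨Nat.prime_two⟩
  obtain ⟨⟨w, hwM⟩, hw⟩ := exists_prime_orderOf_dvd_card' (G := M) 2 heven
  have hw' : orderOf w = 2 := by rw [← hw, Subgroup.orderOf_mk]
  have hodd : Odd p := hp.odd_of_ne_two hp2
  haveI : IsCyclic Y := isCyclic_of_prime_card hY
  have hcomm : ∀ a ∈ Y, ∀ b ∈ Y, a * b = b * a := fun a ha b hb =>
    congrArg Subtype.val ((IsCyclic.commutative (α := Y)).is_comm.comm ⟨a, ha⟩ ⟨b, hb⟩)
  have hord : orderOf y ∣ p := hY ▸ Subgroup.orderOf_dvd_natCard Y hy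
  refine ⟨hy1, hodd.of_dvd_nat hord, w, isI_of_orderOf hw', ?_⟩
  exact h.cit.inverts hcomm (by rw [hY]; exact hodd) hw'
    (fun e he => (Subgroup.mem_normalizer_iff.1 (hM hwM) e).1 he) hy

/-- The number of Sylow subgroups forces the normaliser to have one of few orders. -/
theorem card_local_normalizer {p : ℕ} [hp : Fact p.Prime] (hp2 : p ≠ 2) (hp60 : p ∣ 15) {y : G}
    (hy : y ∈ Subgroup.normalizer (V₁ : Set G)) (hord : orderOf y = p) :
    Nat.card (Subgroup.normalizer (V₁ : Set G) ⊓ Subgroup.normalizer (Subgroup.zpowers y : Set G) : Subgroup G) ∣ 60 ∧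
    ∃ t, Nat.card (Subgroup.normalizer (V₁ : Set G) ⊓ Subgroup.normalizer (Subgroup.zpowers y : Set G) : Subgroup G) * t = 960 ∧
      t % p = 1 ∧ p ∣ Nat.card (Subgroup.normalizer (V₁ : Set G) ⊓ Subgroup.normalizer (Subgroup.zpowers y : Set G) : Subgroup G) := by
  set N := Subgroup.normalizer (V₁ : Set G) with hN
  set Y := Subgroup.zpowers y with hY
  set M := N ⊓ Subgroup.normalizer (Y : Set G) with hM
  have hYc : Nat.card Y = p := by rw [hY, Nat.card_zpowers, hord]
  have hy1 : y ≠ 1 := fun e => hp.1.ne_one (by rw [← hord, e, orderOf_one])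
  have hodd : Odd (orderOf y) := by rw [hord]; exact hp.1.odd_of_ne_two hp2
  have hYN : Y ≤ N := by rw [hY, Subgroup.zpowers_le]; exact hy
  have hYM : Y ≤ M := le_inf hYN Subgroup.le_normalizer
  constructor
  · have hdis : ∀ v ∈ V₁, v ∈ M → v = 1 := by
      intro v hv hvM
      by_contra hv1
      have hc : v * y * v⁻¹ * y⁻¹ = 1 := by
        have h1 : v * y * v⁻¹ * y⁻¹ ∈ Y :=
          Y.mul_mem ((Subgroup.mem_normalizer_iff.1 hvM.2 y).1 (Subgroup.mem_zpowers y))
            (Y.inv_mem (Subgroup.mem_zpowers y))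
        have h2 : v * y * v⁻¹ * y⁻¹ ∈ V₁ := by
          rw [show v * y * v⁻¹ * y⁻¹ = v * (y * v⁻¹ * y⁻¹) by group]
          exact V₁.mul_mem hv ((Subgroup.mem_normalizer_iff.1 hy v⁻¹).1 (V₁.inv_mem hv))
        by_contra hne
        have h3 : orderOf (v * y * v⁻¹ * y⁻¹) = 2 := IsI.orderOf_eq ⟨h.exp₁ _ h2, hne⟩
        have h4 := Subgroup.orderOf_dvd_natCard Y h1
        rw [h3, hYc] at h4
        exact hp2 ((Nat.prime_dvd_prime_iff_eq Nat.prime_two hp.1).1 h4).symm
      exact hy1 (h.cit.eq_one_of_odd (t := v) (IsI.orderOf_eq ⟨h.exp₁ v hv, hv1⟩)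
        (mul_inv_eq_iff_eq_mul.1 (mul_inv_eq_one.1 hc)) hodd)
    haveI : (V₁.subgroupOf N).Normal := Subgroup.normal_subgroupOf_of_le_normalizer le_rfl
    let f : M →* N ⧸ V₁.subgroupOf N :=
      (QuotientGroup.mk' (V₁.subgroupOf N)).comp (Subgroup.inclusion (inf_le_left : M ≤ N))
    have hinj : Function.Injective f := by
      rw [injective_iff_map_eq_one]
      intro m hm
      have : Subgroup.inclusion (inf_le_left : M ≤ N) m ∈ V₁.subgroupOf N := (QuotientGroup.eq_one_iff _).1 hm
      exact Subtype.ext (hdis _ (Subgroup.mem_subgroupOf.1 this) m.2)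
    refine (Subgroup.card_dvd_of_injective f hinj).trans (dvd_of_eq ?_)
    have := Subgroup.card_eq_card_quotient_mul_card_subgroup (V₁.subgroupOf N)
    rw [Nat.card_congr (Subgroup.subgroupOfEquivOfLe (Subgroup.le_normalizer : V₁ ≤ N)).toEquiv, h.card₁,
      h.norm₁] at this
    omega
  · have hc : Nat.card (Y.subgroupOf N) = p := by
      rw [Nat.card_congr (Subgroup.subgroupOfEquivOfLe hYN).toEquiv, hYc]
    have hfac : ¬ p * p ∣ 960 := by
      intro hd
      have : p = 3 ∨ p = 5 := by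
        have := Nat.le_of_dvd (by norm_num) hp60
        have hpp := hp.1
        interval_cases p <;> first | exact Or.inl rfl | exact Or.inr rfl | omega | (norm_num at hpp; done)
      rcases this with rfl | rfl <;> norm_num at hd
    have hpg : IsPGroup p (Y.subgroupOf N) := IsPGroup.of_card (n := 1) (by rw [hc, pow_one])
    let P : Sylow p N := hpg.toSylow (by
      intro hd
      apply hfac
      have := (Y.subgroupOf N).card_mul_index
      rw [hc, h.norm₁] at this
      rw [← this]
      exact Nat.mul_dvd_mul_left p hd)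
    have hnorm : Subgroup.normalizer ((Y.subgroupOf N : Subgroup N) : Set N) = M.subgroupOf N := by
      ext g
      rw [mem_normalizer_iff_conj, Subgroup.mem_subgroupOf]
      constructor
      · intro hg
        refine ⟨g.2, mem_normalizer_iff_conj.2 fun z hz => ?_⟩
        exact hg ⟨z, hYN hz⟩ hz
      · intro hg z hz
        exact mem_normalizer_iff_conj.1 hg.2 z hz
    refine ⟨Nat.card (Sylow p N), ?_, ?_, hYc ▸ Subgroup.card_dvd_of_le hYM⟩
    · rw [P.card_eq_index_normalizer]
      show Nat.card M * (Subgroup.normalizer ((Y.subgroupOf N : Subgroup N) : Set N)).index = 960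
      rw [hnorm, ← Nat.card_congr (Subgroup.subgroupOfEquivOfLe (inf_le_left : M ≤ N)).toEquiv,
        Subgroup.card_mul_index, h.norm₁]
    · have := card_sylow_modEq_one p N
      rw [Nat.ModEq, Nat.mod_eq_of_lt hp.1.one_lt] at this
      exact this

theorem realOdd_five {y : G} (hy : y ∈ Subgroup.normalizer (V₁ : Set G)) (hord : orderOf y = 5) : RealOdd y := by
  haveI : Fact (Nat.Prime 5) := ⟨Nat.prime_five⟩
  obtain ⟨h60, t, ht, ht1, hpM⟩ := h.card_local_normalizer (p := 5) (by norm_num) (by norm_num) hy hord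
  refine h.exists_inverting_of_even Nat.prime_five (by norm_num)
    (M := Subgroup.normalizer (V₁ : Set G) ⊓ Subgroup.normalizer (Subgroup.zpowers y : Set G))
    (Y := Subgroup.zpowers y) (by rw [Nat.card_zpowers, hord]) (Subgroup.mem_zpowers y)
    (fun e => by rw [e, orderOf_one] at hord; norm_num at hord) inf_le_right ?_
  generalize Nat.card (Subgroup.normalizer (V₁ : Set G) ⊓ Subgroup.normalizer (Subgroup.zpowers y : Set G) : Subgroup G) = m at h60 ht hpM ⊢
  by_contra hodd
  have : m = 5 ∨ m = 15 := by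
    have := Nat.le_of_dvd (by norm_num) h60
    obtain ⟨c, rfl⟩ := hpM
    have : c ≤ 12 := by omega
    interval_cases c <;> omega
  rcases this with rfl | rfl <;> omega

theorem exists_three_five : (∃ y : G, RealOdd y ∧ 3 ∣ Nat.card (cent y)) ∧
    ∃ y : G, RealOdd y ∧ 5 ∣ Nat.card (cent y) := by
  haveI : Fact (Nat.Prime 5) := ⟨Nat.prime_five⟩
  haveI : Fact (Nat.Prime 3) := ⟨Nat.prime_three⟩
  obtain ⟨⟨f, hf⟩, hf5⟩ := exists_prime_orderOf_dvd_card' (G := Subgroup.normalizer (V₁ : Set G)) 5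
    (by rw [h.norm₁]; norm_num)
  rw [Subgroup.orderOf_mk] at hf5
  refine ⟨?_, f, h.realOdd_five hf hf5, hf5 ▸ Subgroup.orderOf_dvd_natCard _ (h.mem_cent_self f)⟩
  obtain ⟨⟨y, hy⟩, hy3⟩ := exists_prime_orderOf_dvd_card' (G := Subgroup.normalizer (V₁ : Set G)) 3
    (by rw [h.norm₁]; norm_num)
  rw [Subgroup.orderOf_mk] at hy3
  have hy1 : y ≠ 1 := fun e => by rw [e, orderOf_one] at hy3; norm_num at hy3
  refine ⟨y, ?_, hy3 ▸ Subgroup.orderOf_dvd_natCard _ (h.mem_cent_self y)⟩
  obtain ⟨h60, t, ht, ht1, hpM⟩ := h.card_local_normalizer (p := 3) (by norm_num) (by norm_num) hy hy3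
  set M := (Subgroup.normalizer (V₁ : Set G) ⊓ Subgroup.normalizer (Subgroup.zpowers y : Set G) : Subgroup G) with hM
  by_cases heven : 2 ∣ Nat.card M
  · exact h.exists_inverting_of_even Nat.prime_three (by norm_num) (Y := Subgroup.zpowers y)
      (by rw [Nat.card_zpowers, hy3]) (Subgroup.mem_zpowers y) hy1 inf_le_right heven
  have h15 : Nat.card M = 15 := by
    generalize Nat.card M = m at h60 ht hpM heven
    have := Nat.le_of_dvd (by norm_num) h60
    obtain ⟨c, rfl⟩ := hpM
    have : c ≤ 20 := by omega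
    interval_cases c <;> omega
  obtain ⟨⟨g, hg⟩, hg5⟩ := exists_prime_orderOf_dvd_card' (G := M) 5 (by rw [h15]; norm_num)
  rw [Subgroup.orderOf_mk] at hg5
  have hgy : g * y * g⁻¹ = y := by
    have hmem := (Subgroup.mem_normalizer_iff.1 hg.2 y).1 (Subgroup.mem_zpowers y)
    obtain ⟨j, hj, hj'⟩ : ∃ j, j < 3 ∧ y ^ j = g * y * g⁻¹ := by
      obtain ⟨j, hj⟩ := mem_powers_iff_mem_zpowers.2 hmem
      exact ⟨j % orderOf y, by rw [hy3]; omega, by rw [pow_mod_orderOf]; exact hj⟩
    rcases (by omega : j = 0 ∨ j = 1 ∨ j = 2) with rfl | rfl | rfl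
    · exfalso
      rw [pow_zero] at hj'
      exact hy1 (by simpa [mul_assoc] using (congrArg (fun z => g⁻¹ * z * g) hj').symm)
    · rw [pow_one] at hj'; exact hj'.symm
    · exfalso
      have hiter : ∀ n : ℕ, g ^ n * y * (g ^ n)⁻¹ = y ^ (2 ^ n) := by
        intro n
        induction n with
        | zero => simp
        | succ n ih =>
          calc g ^ (n + 1) * y * (g ^ (n + 1))⁻¹ = g * (g ^ n * y * (g ^ n)⁻¹) * g⁻¹ := by
                rw [pow_succ']; group
            _ = (g * y * g⁻¹) ^ (2 ^ n) := by rw [ih, conj_pow]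
            _ = y ^ (2 ^ (n + 1)) := by rw [← hj', ← pow_mul, pow_succ' 2 n]
      have h5 := hiter 5
      rw [← hg5, pow_orderOf_eq_one, hg5, one_mul, inv_one, mul_one, ← pow_mod_orderOf, hy3] at h5
      norm_num at h5
      exact hy1 (mul_left_cancel (a := y) (by rw [mul_one, ← sq]; exact h5.symm))
  refine h.realOdd_of_mem (h.realOdd_five hg.1 hg5) ?_ hy1
  rw [Subgroup.mem_centralizer_singleton_iff]
  exact (mul_inv_eq_iff_eq_mul.1 hgy).symm

theorem centOrbit_congr {x y g : G} (e : cent y = cent (g * x * g⁻¹)) : centOrbit y = centOrbit x := by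
  have key : ∀ a : G, cent (a * y * a⁻¹) = cent (a * g * x * (a * g)⁻¹) := by
    intro a
    rw [h.cent_conj, e, ← h.cent_conj, show a * (g * x * g⁻¹) * a⁻¹ = a * g * x * (a * g)⁻¹ by group]
  ext B
  constructor
  · rintro ⟨a, rfl⟩; exact ⟨a * g, (key a).symm⟩
  · rintro ⟨a, rfl⟩
    refine ⟨a * g⁻¹, ?_⟩
    show cent (a * g⁻¹ * y * (a * g⁻¹)⁻¹) = cent (a * x * a⁻¹)
    rw [key, show a * g⁻¹ * g = a by group]

theorem card_centOrbit (x : G) :
    Nat.card (centOrbit x) * Nat.card (Subgroup.normalizer (cent x : Set G)) = Nat.card G := by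
  set N := Subgroup.normalizer (cent x : Set G) with hN
  let f : G ⧸ N → centOrbit x := fun q => ⟨_, q.out, rfl⟩
  have hf : Function.Bijective f := by
    constructor
    · intro q q' e
      have e' : (cent x).map (MulAut.conj q.out).toMonoidHom = (cent x).map (MulAut.conj q'.out).toMonoidHom := by
        rw [← h.cent_conj, ← h.cent_conj]; exact congrArg Subtype.val e
      have hm : q.out⁻¹ * q'.out ∈ N := by
        refine mem_normalizer_iff_conj.2 fun a ha => ?_
        have h1 : q'.out * a * q'.out⁻¹ ∈ (cent x).map (MulAut.conj q.out).toMonoidHom := by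
          rw [e']; exact ⟨a, ha, rfl⟩
        rw [Subgroup.mem_map_equiv, MulAut.conj_symm_apply] at h1
        rw [show q.out⁻¹ * q'.out * a * (q.out⁻¹ * q'.out)⁻¹ = q.out⁻¹ * (q'.out * a * q'.out⁻¹) * q.out by group]
        exact h1
      have := QuotientGroup.eq.2 hm
      rwa [QuotientGroup.out_eq', QuotientGroup.out_eq'] at this
    · rintro ⟨_, g, rfl⟩
      refine ⟨(g : G ⧸ N), Subtype.ext ?_⟩
      obtain ⟨n, hn⟩ := QuotientGroup.mk_out_eq_mul N g
      show cent ((g : G ⧸ N).out * x * (g : G ⧸ N).out⁻¹) = cent (g * x * g⁻¹)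
      rw [hn, h.cent_conj, h.cent_conj]
      ext a
      rw [Subgroup.mem_map_equiv, Subgroup.mem_map_equiv, MulAut.conj_symm_apply, MulAut.conj_symm_apply]
      have hnn := Subgroup.mem_normalizer_iff.1 n.2 ((g * n)⁻¹ * a * (g * n))
      rw [show (n : G) * ((g * n)⁻¹ * a * (g * n)) * (n : G)⁻¹ = g⁻¹ * a * g by group] at hnn
      exact hnn
  rw [← Nat.card_eq_of_bijective f hf, mul_comm]
  exact N.card_mul_index

theorem card_cent_conj (g x : G) : Nat.card (cent (g * x * g⁻¹)) = Nat.card (cent x) := by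
  rw [h.cent_conj]
  exact (Nat.card_congr ((cent x).equivMapOfInjective _ (MulAut.conj g).injective).toEquiv).symm

theorem card_fibre {x : G} (hx : RealOdd x) :
    {y : G | RealOdd y ∧ centOrbit y = centOrbit x}.ncard =
      Nat.card (centOrbit x) * (Nat.card (cent x) - 1) := by
  classical
  haveI : Fintype (centOrbit x) := Fintype.ofFinite _
  let Fib : centOrbit x → Type _ := fun B => {a : G // a ∈ B.1 ∧ a ≠ 1}
  have hmem : ∀ B : centOrbit x, ∀ a : Fib B, RealOdd a.1 ∧ cent a.1 = B.1 := by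
    rintro ⟨_, g, rfl⟩ ⟨a, ha, ha1⟩
    exact ⟨h.realOdd_of_mem (h.realOdd_conj g hx) ha ha1, h.cent_eq (h.realOdd_conj g hx) ha ha1⟩
  have hS : ∀ y : {y : G // RealOdd y ∧ centOrbit y = centOrbit x}, cent y.1 ∈ centOrbit x := fun y => by
    obtain ⟨y, hy1, hy2⟩ := y
    show cent y ∈ centOrbit x
    rw [← hy2]; exact ⟨1, by simp⟩
  let e : {y : G // RealOdd y ∧ centOrbit y = centOrbit x} ≃ Σ B, Fib B :=
    { toFun := fun y => ⟨⟨cent y.1, hS y⟩, ⟨y.1, h.mem_cent_self y.1, y.2.1.1⟩⟩
      invFun := fun p => ⟨p.2.1, (hmem p.1 p.2).1, by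
        obtain ⟨g, hg⟩ := p.1.2
        exact h.centOrbit_congr (g := g) ((hmem p.1 p.2).2.trans hg.symm)⟩
      left_inv := fun y => rfl
      right_inv := by
        rintro ⟨B, a⟩
        have hB := (hmem B a).2
        refine Sigma.ext (Subtype.ext hB) ?_
        refine (Subtype.heq_iff_coe_eq (fun w => ?_)).2 rfl
        show (w ∈ cent a.1 ∧ w ≠ 1) ↔ (w ∈ B.1 ∧ w ≠ 1)
        rw [hB] }
  have hfc : ∀ B : centOrbit x, Nat.card (Fib B) = Nat.card (cent x) - 1 := by
    rintro ⟨_, g, rfl⟩
    rw [← h.card_cent_conj g x]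
    show Nat.card {a : G // a ∈ cent (g * x * g⁻¹) ∧ a ≠ 1} = _
    rw [← Nat.card_congr (Equiv.refl {a : G // a ∈ cent (g * x * g⁻¹) ∧ a ≠ 1}), ← SetLike.coe_sort_coe,
      Nat.card_coe_set_eq, ← Set.ncard_sdiff_singleton_of_mem
      (show (1 : G) ∈ (cent (g * x * g⁻¹) : Set G) from Subgroup.one_mem _), ← Nat.card_coe_set_eq]
    rfl
  rw [← Nat.card_coe_set_eq]
  show Nat.card {y : G // RealOdd y ∧ centOrbit y = centOrbit x} = _
  rw [Nat.card_congr e, Nat.card_sigma, Finset.sum_congr rfl (fun B _ => hfc B), Finset.sum_const, Finset.card_univ,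
    ← Nat.card_eq_fintype_card, smul_eq_mul]

/-- The order of the group. -/
theorem card_eq : Nat.card G = 20160 := by
  classical
  haveI : Fintype G := Fintype.ofFinite G
  obtain ⟨z, hz, hz1⟩ := h.exists_central
  have hzI : IsI z := ⟨h.exp₁ z hz.1, hz1⟩
  -- the involutions
  set I := (Finset.univ.filter fun u : G => IsI u).card with hI
  have hI' : I = {u : G | IsI u}.ncard := by
    rw [hI, ← Set.ncard_coe_finset]; congr 1; ext; simp
  have hG : Nat.card G = 64 * I := by
    have horb : MulAction.orbit (ConjAct G) z = {u : G | IsI u} := by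
      ext u
      constructor
      · rintro ⟨g, rfl⟩; exact conj_isI (ConjAct.ofConjAct g) hzI
      · intro hu
        obtain ⟨g, hg⟩ := isConj_iff.1 (h.isConj_inv hu hz hz1).symm
        exact ⟨ConjAct.toConjAct g, hg⟩
    have := (MulAction.stabilizer (ConjAct G) z).card_mul_index
    rw [MulAction.index_stabilizer, horb, ← hI'] at this
    have hst : Nat.card (MulAction.stabilizer (ConjAct G) z) = 64 := by
      rw [← h.card_T, ← h.centralizer_eq hz hz1]
      refine Nat.card_congr
        { toFun := fun g => ⟨ConjAct.ofConjAct g.1, Subgroup.mem_centralizer_singleton_iff.2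
            (mul_inv_eq_iff_eq_mul.1 g.2)⟩
          invFun := fun g => ⟨ConjAct.toConjAct g.1, MulAction.mem_stabilizer_iff.2 (by
            rw [ConjAct.toConjAct_smul]
            exact mul_inv_eq_iff_eq_mul.2 (Subgroup.mem_centralizer_singleton_iff.1 g.2))⟩
          left_inv := fun g => rfl
          right_inv := fun g => rfl }
    rw [hst] at this
    exact this.symm
  have hI0 : 0 < I := by have : 0 < Nat.card G := Nat.card_pos; omega
  -- the classification of the elements
  have hclass : ∀ x : G, x ≠ 1 → ¬ IsI x → ¬ IsI (x * x) → Odd (orderOf x) := by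
    intro x hx1 hxI hxx
    by_contra hne
    obtain ⟨m, hm⟩ := even_iff_two_dvd.1 (Nat.not_odd_iff_even.1 hne)
    have hpos : 0 < orderOf x := orderOf_pos x
    have hv : IsI (x ^ m) := by
      refine ⟨by rw [← pow_add, ← two_mul, ← hm, pow_orderOf_eq_one], fun e => ?_⟩
      have := Nat.le_of_dvd (by omega) (orderOf_dvd_of_pow_eq_one e)
      omega
    obtain ⟨g, hg⟩ := h.exists_conj_of_commute hv (Commute.pow_self x m)
    have h4 := h.pow_four hg
    rw [conj_pow] at h4
    have h4' : x ^ 4 = 1 := by simpa [mul_assoc] using congrArg (fun w => g⁻¹ * w * g) h4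
    by_cases h2 : x * x = 1
    · exact hxI ⟨h2, hx1⟩
    · exact hxx ⟨by rw [← h4']; simp [pow_succ, mul_assoc], h2⟩
  have hreal : ∀ x : G, x ≠ 1 → Odd (orderOf x) → rr x ≠ 0 → RealOdd x := by
    intro x hx1 ho hr
    obtain ⟨v, hv, hvx⟩ := Set.nonempty_of_ncard_ne_zero (s := {v : G | IsI v ∧ IsI (v * x)}) hr
    exact ⟨hx1, ho, v, hv, inverts_of_isI hv hvx⟩
  set R := Finset.univ.filter fun x : G => RealOdd x with hR
  set X2 := Finset.univ.filter fun x : G => IsI x with hX2
  set X4 := Finset.univ.filter fun x : G => IsI (x * x) with hX4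
  have hdis24 : Disjoint X2 X4 := by
    rw [Finset.disjoint_left]
    intro x h2 h4
    simp only [X2, X4, Finset.mem_filter, Finset.mem_univ, true_and] at h2 h4
    exact h4.2 h2.1
  have hX4c : X4.card = 12 * I := by
    rw [Finset.card_eq_sum_card_fiberwise (t := X2) (f := fun x : G => x * x) (fun x hx => by
      simp only [Finset.coe_filter, X4, X2, Finset.mem_univ, true_and, Set.mem_setOf_eq] at hx ⊢
      exact hx)]
    rw [Finset.sum_congr rfl (fun u hu => ?_), Finset.sum_const, smul_eq_mul, ← hI, mul_comm]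
    simp only [X2, Finset.mem_filter, Finset.mem_univ, true_and] at hu
    obtain ⟨g, rfl⟩ := isConj_iff.1 (h.isConj_inv hu hz hz1).symm
    have : ((X4.filter fun x => x * x = g * z * g⁻¹) : Set G) = (fun x => g * x * g⁻¹) '' {x | x * x = z} := by
      ext x
      simp only [Finset.coe_filter, X4, Finset.mem_filter, Finset.mem_univ, true_and, Set.mem_setOf_eq,
        Set.mem_image]
      constructor
      · rintro ⟨-, e⟩
        refine ⟨g⁻¹ * x * g, ?_, by group⟩
        rw [show g⁻¹ * x * g * (g⁻¹ * x * g) = g⁻¹ * (x * x) * g by group, e]; group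
      · rintro ⟨y, hy, rfl⟩
        have e : g * y * g⁻¹ * (g * y * g⁻¹) = g * z * g⁻¹ := by
          rw [show g * y * g⁻¹ * (g * y * g⁻¹) = g * (y * y) * g⁻¹ by group, hy]
        exact ⟨e ▸ conj_isI g hzI, e⟩
    rw [← Set.ncard_coe_finset, this, Set.ncard_image_of_injective _ (fun a b e => by
      simpa [mul_assoc] using congrArg (fun w => g⁻¹ * w * g) e), h.card_sq_fibre hz hz1]
  have hone : (1 : G) ∉ X2 ∪ X4 := by
    simp only [X2, X4, Finset.mem_union, Finset.mem_filter, Finset.mem_univ, true_and]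
    simp [IsI]
  set L := insert (1 : G) (X2 ∪ X4) with hL
  have hRL : Disjoint L R := by
    rw [Finset.disjoint_left]
    intro x hxL hxR
    simp only [L, X2, X4, R, Finset.mem_insert, Finset.mem_union, Finset.mem_filter, Finset.mem_univ,
      true_and] at hxL hxR
    rcases hxL with rfl | h2 | h4
    · exact hxR.1 rfl
    · have := hxR.2.1
      rw [h2.orderOf_eq] at this
      exact absurd this (by decide)
    · refine h4.2 ?_
      refine h.cit.eq_one_of_odd h4.orderOf_eq (Commute.refl _) ?_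
      exact hxR.2.1.of_dvd_nat (orderOf_dvd_of_mem_zpowers (by
        rw [← sq]; exact Subgroup.pow_mem _ (Subgroup.mem_zpowers x) 2))
  -- counting pairs
  have hpairs : ∑ x : G, rr x = I * I := by
    have e : (Σ x : G, {v : G // IsI v ∧ IsI (v * x)}) ≃ {v : G // IsI v} × {v : G // IsI v} :=
      { toFun := fun p => (⟨p.2.1, p.2.2.1⟩, ⟨p.2.1 * p.1, p.2.2.2⟩)
        invFun := fun q => ⟨q.1.1 * q.2.1, q.1.1, q.1.2, by
          rw [← mul_assoc, q.1.2.1, one_mul]; exact q.2.2⟩
        left_inv := fun p => by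
          refine Sigma.ext (by dsimp only; rw [← mul_assoc, p.2.2.1.1, one_mul]) ?_
          refine (Subtype.heq_iff_coe_eq (fun w => ?_)).2 rfl
          dsimp only
          rw [← mul_assoc p.2.1 p.2.1, p.2.2.1.1, one_mul]
        right_inv := fun q => Prod.ext rfl (Subtype.ext (by dsimp only; rw [← mul_assoc, q.1.2.1, one_mul])) }
    have h1 := Nat.card_congr e
    rw [Nat.card_sigma, Nat.card_prod] at h1
    have hI2 : Nat.card {v : G // IsI v} = I := by
      rw [hI']; exact Nat.card_coe_set_eq {u : G | IsI u}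
    rw [hI2] at h1
    rw [← h1]
    exact Finset.sum_congr rfl fun x _ => (Nat.card_coe_set_eq {v : G | IsI v ∧ IsI (v * x)}).symm
  have hLsum : ∑ x ∈ L, rr x = 123 * I := by
    rw [Finset.sum_insert hone, Finset.sum_union hdis24,
      Finset.sum_congr rfl (fun x hx => h.rr_involution (u := x) (by simpa [X2] using hx)),
      Finset.sum_congr (s₁ := X4) rfl (fun x hx => h.rr_four (x := x) (by simpa [X4] using hx)),
      Finset.sum_const, Finset.sum_const, smul_eq_mul, smul_eq_mul, hX4c, ← hI]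
    have : rr (1 : G) = I := by
      rw [hI', rr]; congr 1; ext u; simp
    rw [this]; ring
  have hsplit : ∑ x : G, rr x = ∑ x ∈ L, rr x + ∑ x ∈ R, rr x := by
    rw [← Finset.sum_union hRL]
    refine (Finset.sum_subset (Finset.subset_univ _) fun x _ hx => ?_).symm
    simp only [L, R, X2, X4, Finset.mem_union, Finset.mem_insert, Finset.mem_filter, Finset.mem_univ, true_and,
      not_or] at hx
    by_contra hr
    exact hx.2 (hreal x hx.1.1 (hclass x hx.1.1 hx.1.2.1 hx.1.2.2) hr)
  have hcount : 1 + 13 * I + R.card ≤ 64 * I := by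
    rw [← hG, Nat.card_eq_fintype_card, ← Finset.card_univ]
    calc 1 + 13 * I + R.card = (L ∪ R).card := by
          rw [Finset.card_union_of_disjoint hRL, Finset.card_insert_of_notMem hone,
            Finset.card_union_of_disjoint hdis24, hX4c, ← hI]
          ring
      _ ≤ _ := Finset.card_le_univ _
  -- the families
  set K := R.image centOrbit with hK
  let rep : Set (Subgroup G) → G := fun k => if hk : ∃ x, RealOdd x ∧ centOrbit x = k then hk.choose else 1
  have hrep : ∀ k ∈ K, RealOdd (rep k) ∧ centOrbit (rep k) = k := by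
    intro k hk
    obtain ⟨x, hx, e⟩ := Finset.mem_image.1 hk
    simp only [R, Finset.mem_filter, Finset.mem_univ, true_and] at hx
    have hex : ∃ x, RealOdd x ∧ centOrbit x = k := ⟨x, hx, e⟩
    simp only [rep, dif_pos hex]
    exact hex.choose_spec
  let a : Set (Subgroup G) → ℕ := fun k => Nat.card (cent (rep k))
  let hh : Set (Subgroup G) → ℕ := fun k => Nat.card (Subgroup.normalizer (cent (rep k) : Set G)) / a k
  have hdata : ∀ k ∈ K, a k % 2 = 1 ∧ 3 ≤ a k ∧ (hh k = 2 ∨ hh k = 4 ∨ hh k = 8) ∧ (a k - 1) % hh k = 0 ∧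
      (R.filter fun y => centOrbit y = k).card * (a k * hh k) = 64 * I * (a k - 1) := by
    intro k hk
    obtain ⟨hr, he⟩ := hrep k hk
    obtain ⟨m, hm, hN, hdiv⟩ := h.normalizer_cent hr
    have hodd := h.odd_cent hr.1 hr.2.1
    have ha1 : a k ≠ 1 := by
      intro e1
      have hb := Subgroup.eq_bot_of_card_eq (cent (rep k)) e1
      have hm' := h.mem_cent_self (rep k)
      rw [hb, Subgroup.mem_bot] at hm'
      exact hr.1 hm'
    have hmod : a k % 2 = 1 := Nat.odd_iff.1 hodd
    have hhk : hh k = m := by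
      show Nat.card (Subgroup.normalizer (cent (rep k) : Set G)) / a k = m
      rw [hN]
      exact Nat.mul_div_cancel_left m (by show 0 < a k; omega)
    rw [hhk]
    refine ⟨hmod, by omega, hm, hdiv, ?_⟩
    have hc : (R.filter fun y => centOrbit y = k).card = Nat.card (centOrbit (rep k)) * (a k - 1) := by
      rw [← h.card_fibre hr, ← Set.ncard_coe_finset]
      congr 1; ext y; simp [R, he]
    rw [hc, ← hG, ← h.card_centOrbit (rep k), hN]
    ring
  have hRsum : ∑ x ∈ R, rr x = I * ∑ k ∈ K, 64 / hh k * (a k - 1) := by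
    rw [← Finset.sum_fiberwise_of_maps_to (t := K) (g := centOrbit)
      (fun x hx => Finset.mem_image_of_mem _ hx), Finset.mul_sum]
    refine Finset.sum_congr rfl fun k hk => ?_
    obtain ⟨hodd, h3, hm, hdiv, hf⟩ := hdata k hk
    obtain ⟨hr, he⟩ := hrep k hk
    rw [Finset.sum_congr rfl (fun y hy => ?_), Finset.sum_const, smul_eq_mul (b := a k)]
    · have h64 : 64 / hh k * hh k = 64 := by rcases hm with e | e | e <;> rw [e]
      have hpos : 0 < hh k := by omega
      apply Nat.eq_of_mul_eq_mul_right hpos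
      rw [show I * (64 / hh k * (a k - 1)) * hh k = I * (64 / hh k * hh k) * (a k - 1) by ring, h64,
        mul_assoc, hf]
      ring
    · simp only [R, Finset.mem_filter, Finset.mem_univ, true_and] at hy
      obtain ⟨hyR, hye⟩ := hy
      obtain ⟨hy1, hyo, v, hv, hvy⟩ := hyR
      rw [h.rr_real hy1 hyo hv hvy]
      have : cent y ∈ centOrbit (rep k) := by rw [he, ← hye]; exact ⟨1, by simp⟩
      obtain ⟨g, hg⟩ := this
      show Nat.card (cent y) = Nat.card (cent (rep k))
      rw [← hg, h.card_cent_conj]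
  have heq : I = 123 + ∑ k ∈ K, 64 / hh k * (a k - 1) := by
    have := hpairs
    rw [hsplit, hLsum, hRsum] at this
    apply Nat.eq_of_mul_eq_mul_left hI0
    rw [← this]; ring
  have hcop : ∀ i ∈ K, ∀ j ∈ K, i ≠ j → Nat.gcd (a i) (a j) = 1 := by
    intro i hi j hj hne
    by_contra hg
    obtain ⟨p, hp, hpd⟩ := Nat.exists_prime_and_dvd hg
    haveI : Fact p.Prime := ⟨hp⟩
    obtain ⟨g, hg⟩ := h.exists_conj_cent (hrep i hi).1 (hrep j hj).1 (hpd.trans (Nat.gcd_dvd_left _ _))
      (hpd.trans (Nat.gcd_dvd_right _ _))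
    exact hne (by rw [← (hrep i hi).2, ← (hrep j hj).2, h.centOrbit_congr (g := g) hg.symm])
  have hdvd1 : ∀ k ∈ K, a k ∣ I := by
    intro k hk
    have h1 : a k ∣ 64 * I := hG ▸ Subgroup.card_subgroup_dvd_card _
    refine (Nat.Coprime.dvd_mul_left ?_).1 h1
    rw [show (64 : ℕ) = 2 ^ 6 by norm_num]
    exact Nat.Coprime.pow_right 6 (Nat.coprime_two_right.2 (Nat.odd_iff.2 (hdata k hk).1))
  have hprod : ∀ s ⊆ K, (∏ k ∈ s, a k) ∣ I := by
    intro s
    induction s using Finset.induction with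
    | empty => intro _; simp
    | insert i s his ih =>
      intro hs
      rw [Finset.prod_insert his]
      refine Nat.Coprime.mul_dvd_of_dvd_of_dvd (Nat.Coprime.prod_right fun j hj => ?_)
        (hdvd1 i (hs (Finset.mem_insert_self _ _))) (ih fun x hx => hs (Finset.mem_insert_of_mem hx))
      exact hcop i (hs (Finset.mem_insert_self _ _)) j (hs (Finset.mem_insert_of_mem hj)) fun e => his (e ▸ hj)
  have hdvdp : ∀ p : ℕ, (∃ y : G, RealOdd y ∧ p ∣ Nat.card (cent y)) → p ∣ ∏ k ∈ K, a k := by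
    rintro p ⟨y, hy, hp⟩
    have hk : centOrbit y ∈ K := Finset.mem_image_of_mem _ (by simp [R, hy])
    refine (hp.trans (dvd_of_eq ?_)).trans (Finset.dvd_prod_of_mem a hk)
    have : cent y ∈ centOrbit (rep (centOrbit y)) := by rw [(hrep _ hk).2]; exact ⟨1, by simp⟩
    obtain ⟨g, hg⟩ := this
    show Nat.card (cent y) = Nat.card (cent (rep (centOrbit y)))
    rw [← hg, h.card_cent_conj]
  obtain ⟨h3, h5⟩ := h.exists_three_five
  have hfrac : (∑ k ∈ K, ((a k : ℚ) - 1) / (a k * hh k)) < 51 / 64 := by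
    have hcard : (R.card : ℚ) = 64 * I * ∑ k ∈ K, ((a k : ℚ) - 1) / (a k * hh k) := by
      rw [Finset.card_eq_sum_card_fiberwise (t := K) (f := centOrbit) (fun x hx => Finset.mem_image_of_mem _ hx),
        Nat.cast_sum, Finset.mul_sum]
      refine Finset.sum_congr rfl fun k hk => ?_
      obtain ⟨hodd, h3, hm, hdiv, hf⟩ := hdata k hk
      have hf' : ((R.filter fun y => centOrbit y = k).card : ℚ) * ((a k : ℚ) * hh k) = 64 * I * ((a k : ℚ) - 1) := by
        have e := congrArg (fun n : ℕ => (n : ℚ)) hf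
        push_cast [Nat.cast_sub (by omega : 1 ≤ a k)] at e
        exact e
      have hne : ((a k : ℚ) * hh k) ≠ 0 := by
        have : a k * hh k ≠ 0 := by rcases hm with e | e | e <;> rw [e] <;> omega
        exact_mod_cast this
      rw [← mul_div_assoc, eq_div_iff hne]
      exact hf'
    have h1 : (1 : ℚ) + 13 * I + R.card ≤ 64 * I := by exact_mod_cast hcount
    rw [hcard] at h1
    have hIpos : (0 : ℚ) < (I : ℚ) := by exact_mod_cast hI0
    nlinarith
  have hF : Fams a hh K I :=
    { odd := fun k hk => ⟨(hdata k hk).1, (hdata k hk).2.1⟩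
      exp := fun k hk => ⟨(hdata k hk).2.2.1, (hdata k hk).2.2.2.1⟩
      cop := hcop
      eq := heq
      frac := hfrac
      dvd := hprod K subset_rfl
      three := hdvdp 3 h3
      five := hdvdp 5 h5 }
  rw [hG, hF.eq_315]

end CITData

/-- The local hypotheses from a Sylow 2-subgroup all whose involutions lie in `V₁ ∪ V₂`. -/
theorem CITData.of_involutions {G : Type*} [Group G] [Finite G] (hcit : InvCentTwo G) (S : Sylow 2 G)
    (hS : Nat.card (S : Subgroup G) = 64) {V₁ V₂ : Subgroup G} (le₁ : V₁ ≤ S) (le₂ : V₂ ≤ S)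
    (e₁ : ∀ v ∈ V₁, v * v = 1) (e₂ : ∀ v ∈ V₂, v * v = 1) (c₁ : Nat.card V₁ = 16) (c₂ : Nat.card V₂ = 16)
    (hsup : ∀ t ∈ (S : Subgroup G), ∃ a ∈ V₁, ∃ b ∈ V₂, t = a * b)
    (hinv : ∀ x ∈ (S : Subgroup G), x * x = 1 → x ∈ V₁ ∨ x ∈ V₂)
    (n₁ : Nat.card (Subgroup.normalizer (V₁ : Set G)) = 960)
    (n₂ : Nat.card (Subgroup.normalizer (V₂ : Set G)) = 960) : CITData (S : Subgroup G) V₁ V₂ where
  cit := hcit
  not_dvd := fun hd => by
    haveI : Fact (Nat.Prime 2) := ⟨Nat.prime_two⟩
    have h1 := Subgroup.card_mul_index (S : Subgroup G)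
    rw [hS] at h1
    obtain ⟨c, hc⟩ := hd
    exact S.not_dvd_index ⟨c, by omega⟩
  card_T := hS
  le₁ := le₁
  le₂ := le₂
  ne := fun e => by
    have hle : (S : Subgroup G) ≤ V₁ := fun t ht => by
      obtain ⟨a, ha, b, hb, rfl⟩ := hsup t ht
      exact V₁.mul_mem ha (e ▸ hb)
    have := Subgroup.card_le_of_le hle
    rw [hS, c₁] at this
    omega
  exp₁ := e₁
  exp₂ := e₂
  card₁ := c₁
  card₂ := c₂
  sup := hsup
  only := fun A hA he hc => by
    by_cases h1 : A ≤ V₁
    · exact Or.inl (Subgroup.eq_of_le_of_card_ge h1 (by rw [hc, c₁]))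
    · obtain ⟨a, ha, ha1⟩ := SetLike.not_le_iff_exists.1 h1
      refine Or.inr (Subgroup.eq_of_le_of_card_ge (fun b hb => ?_) (by rw [hc, c₂]))
      have ha2 : a ∈ V₂ := (hinv a (hA ha) (he a ha)).resolve_left ha1
      rcases hinv b (hA hb) (he b hb) with hb1 | hb2
      · rcases hinv (a * b) (hA (A.mul_mem ha hb)) (he _ (A.mul_mem ha hb)) with hm | hm
        · exact absurd ((V₁.mul_mem_cancel_right hb1).1 hm) ha1
        · exact (V₂.mul_mem_cancel_left ha2).1 hm
      · exact hb2
  norm₁ := n₁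
  norm₂ := n₂

/-- A simple CIT group with a Sylow 2-subgroup of order 64 generated by two elementary abelian groups
of order 16 whose normalisers are non-solvable of order 960 is `PSL(3,4)`. -/
theorem nonempty_mulEquiv_PSL_three_four_of_cit {G : Type v} [Group G] [Finite G] [IsSimpleGroup G]
    {T V₁ V₂ : Subgroup G} (h : CITData T V₁ V₂)
    (s₁ : ¬ Group.IsSolvable (Subgroup.normalizer (V₁ : Set G)))
    (s₂ : ¬ Group.IsSolvable (Subgroup.normalizer (V₂ : Set G)))
    {F : Type u} [Field F] [Fintype F] (hF : Fintype.card F = 4) :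
    Nonempty (G ≃* Matrix.ProjectiveSpecialLinearGroup (Fin 3) F) :=
  nonempty_mulEquiv_PSL_three_four (parab_of_normalizers h.card_eq h.card_T h.le₁ h.le₂ h.ne h.exp₁ h.exp₂
    h.card₁ h.card₂ h.sup h.only h.norm₁ h.norm₂ s₁ s₂) hF

end CfsgLib.PSL34
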