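import Cfsg.Agent.CIT.BadQSixtyFour
import Cfsg.Agent.PSL34.CITOrder

/-!
A simple CIT group with Sylow 2-subgroups of order 64 as in `SixtyFour` is `PSL₃(4)`.
-/

set_option autoImplicit false

namespace CfsgLib.PSL34

open CfsgLib.CITThreePrime

universe u

variable {G : Type u} [Group G] [Finite G]

theorem citData_of_sixtyFour (hcit : InvCentTwo G) {T V₁ V₂ : Subgroup G}
    (h : CfsgLib.CIT.SixtyFour T V₁ V₂) : CITData T V₁ V₂ where
  cit := hcit
  not_dvd hd := by
    haveI : Fact (Nat.Prime 2) := ⟨Nat.prime_two⟩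
    obtain ⟨E, hE⟩ := Sylow.exists_subgroup_card_pow_prime 2 (n := 7) (G := G) hd
    have := h.card_le E (IsPGroup.of_card hE)
    omega
  card_T := h.card_T
  le₁ := h.le₁
  le₂ := h.le₂
  ne := h.ne
  exp₁ := h.exp₁
  exp₂ := h.exp₂
  card₁ := h.card₁
  card₂ := h.card₂
  sup := h.sup
  only := h.only
  norm₁ := h.normalizer₁
  norm₂ := h.normalizer₂

theorem nonempty_mulEquiv_PSL_three_four_of_sixtyFour [IsSimpleGroup G] (hcit : InvCentTwo G)
    {T V₁ V₂ : Subgroup G} (h : CfsgLib.CIT.SixtyFour T V₁ V₂)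
    {F : Type*} [Field F] [Fintype F] (hF : Fintype.card F = 4) :
    Nonempty (G ≃* Matrix.ProjectiveSpecialLinearGroup (Fin 3) F) :=
  nonempty_mulEquiv_PSL_three_four_of_cit (citData_of_sixtyFour hcit h) h.ns₁ h.ns₂ hF

end CfsgLib.PSL34
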