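import Cfsg.Agent.CITThreePrime.Basic
import Mathlib.GroupTheory.GroupAction.ConjAct
import Mathlib.Tactic

/-!
# CIT groups with Sylow 2-subgroup generated by two elementary abelian groups of order 16: 2-elements

For the count of involution pairs: the number `rr x` of involutions `v` with `v * x` an involution,
for each 2-element `x`.
-/

set_option autoImplicit false
set_option linter.style.haveILetI false
set_option linter.unusedSectionVars false

namespace CfsgLib.PSL34

open CfsgLib.CITThreePrime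

/-- The local hypotheses. -/
structure CITData {G : Type*} [Group G] (T V₁ V₂ : Subgroup G) : Prop where
  cit : InvCentTwo G
  not_dvd : ¬ 128 ∣ Nat.card G
  card_T : Nat.card T = 64
  le₁ : V₁ ≤ T
  le₂ : V₂ ≤ T
  ne : V₁ ≠ V₂
  exp₁ : ∀ v ∈ V₁, v * v = 1
  exp₂ : ∀ v ∈ V₂, v * v = 1
  card₁ : Nat.card V₁ = 16
  card₂ : Nat.card V₂ = 16
  sup : ∀ t ∈ T, ∃ a ∈ V₁, ∃ b ∈ V₂, t = a * b
  only : ∀ A ≤ T, (∀ a ∈ A, a * a = 1) → Nat.card A = 16 → A = V₁ ∨ A = V₂
  norm₁ : Nat.card (Subgroup.normalizer (V₁ : Set G)) = 960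
  norm₂ : Nat.card (Subgroup.normalizer (V₂ : Set G)) = 960

/-- Being an involution. -/
def IsI {G : Type*} [Group G] (v : G) : Prop := v * v = 1 ∧ v ≠ 1

/-- The number of ways to write `x` as a product of two involutions. -/
noncomputable def rr {G : Type*} [Group G] (x : G) : ℕ := {v : G | IsI v ∧ IsI (v * x)}.ncard

section
variable {G : Type*} [Group G]

theorem IsI.orderOf_eq {v : G} (h : IsI v) : orderOf v = 2 :=
  orderOf_eq_prime (by rw [sq]; exact h.1) h.2

theorem isI_of_orderOf {v : G} (h : orderOf v = 2) : IsI v :=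
  ⟨by rw [← sq, ← h, pow_orderOf_eq_one], fun e => by rw [e, orderOf_one] at h; norm_num at h⟩

theorem IsI.inv_eq {v : G} (h : IsI v) : v⁻¹ = v := inv_eq_of_mul_eq_one_right h.1

theorem conj_isI {v : G} (g : G) (h : IsI v) : IsI (g * v * g⁻¹) := by
  refine ⟨?_, fun e => h.2 ?_⟩
  · rw [show g * v * g⁻¹ * (g * v * g⁻¹) = g * (v * v) * g⁻¹ by group, h.1]; group
  · simpa [mul_assoc] using congrArg (fun z => g⁻¹ * z * g) e

theorem rr_conj_le [Finite G] (g x : G) : rr x ≤ rr (g * x * g⁻¹) := by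
  refine Set.ncard_le_ncard_of_injOn (fun v => g * v * g⁻¹) ?_ ?_ (Set.toFinite _)
  · rintro v ⟨h1, h2⟩
    refine ⟨conj_isI g h1, ?_⟩
    rw [show g * v * g⁻¹ * (g * x * g⁻¹) = g * (v * x) * g⁻¹ by group]
    exact conj_isI g h2
  · intro a _ b _ e
    simpa using congrArg (fun z => g⁻¹ * z * g) e

theorem rr_conj [Finite G] (g x : G) : rr (g * x * g⁻¹) = rr x := by
  refine le_antisymm ?_ (rr_conj_le g x)
  have := rr_conj_le g⁻¹ (g * x * g⁻¹)
  rwa [show g⁻¹ * (g * x * g⁻¹) * g⁻¹⁻¹ = x by group] at this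

theorem inverts_of_isI {v x : G} (hv : IsI v) (hvx : IsI (v * x)) : v * x * v⁻¹ = x⁻¹ := by
  have h := hvx.1
  rw [hv.inv_eq]
  calc v * x * v = v * x * (v * x) * x⁻¹ := by group
    _ = x⁻¹ := by rw [h, one_mul]

end

namespace CITData

variable {G : Type*} [Group G] [Finite G] {T V₁ V₂ : Subgroup G} (h : CITData T V₁ V₂)
include h

theorem symm_sup : ∀ t ∈ T, ∃ b ∈ V₂, ∃ a ∈ V₁, t = b * a := by
  intro t ht
  obtain ⟨a, ha, b, hb, e⟩ := h.sup t⁻¹ (T.inv_mem ht)
  exact ⟨b⁻¹, V₂.inv_mem hb, a⁻¹, V₁.inv_mem ha, by rw [← inv_inv t, e, mul_inv_rev]⟩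

theorem symm : CITData T V₂ V₁ where
  cit := h.cit
  not_dvd := h.not_dvd
  card_T := h.card_T
  le₁ := h.le₂
  le₂ := h.le₁
  ne := h.ne.symm
  exp₁ := h.exp₂
  exp₂ := h.exp₁
  card₁ := h.card₂
  card₂ := h.card₁
  sup := h.symm_sup
  only := fun A hA he hc => (h.only A hA he hc).symm
  norm₁ := h.norm₂
  norm₂ := h.norm₁

theorem comm₁ {x y : G} (hx : x ∈ V₁) (hy : y ∈ V₁) : x * y = y * x := by
  have h1 := h.exp₁ _ (V₁.mul_mem hx hy)
  have hxi : x⁻¹ = x := inv_eq_of_mul_eq_one_right (h.exp₁ x hx)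
  have hyi : y⁻¹ = y := inv_eq_of_mul_eq_one_right (h.exp₁ y hy)
  calc x * y = (x * y)⁻¹ := (inv_eq_of_mul_eq_one_right h1).symm
    _ = y * x := by rw [mul_inv_rev, hxi, hyi]

theorem conj_mem₁ {t v : G} (ht : t ∈ T) (hv : v ∈ V₁) : t * v * t⁻¹ ∈ V₁ := by
  have key : ∀ b ∈ V₂, ∀ w ∈ V₁, b * w * b⁻¹ ∈ V₁ := by
    intro b hb w hw
    have hbT := h.le₂ hb
    have hc : Nat.card (V₁.map (MulAut.conj b).toMonoidHom) = 16 := by
      rw [← h.card₁]
      exact (Nat.card_congr (V₁.equivMapOfInjective _ (MulAut.conj b).injective).toEquiv).symm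
    have hle : V₁.map (MulAut.conj b).toMonoidHom ≤ T := by
      rintro _ ⟨a, ha, rfl⟩
      exact T.mul_mem (T.mul_mem hbT (h.le₁ ha)) (T.inv_mem hbT)
    have hexp : ∀ a ∈ V₁.map (MulAut.conj b).toMonoidHom, a * a = 1 := by
      rintro _ ⟨a, ha, rfl⟩
      rw [← map_mul, h.exp₁ a ha, map_one]
    rcases h.only _ hle hexp hc with e | e
    · rw [← e]; exact ⟨w, hw, rfl⟩
    · exfalso
      apply h.ne
      refine Subgroup.eq_of_le_of_card_ge (fun a ha => ?_) (by rw [h.card₁, h.card₂])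
      have hm : MulAut.conj b a ∈ V₂ := e ▸ ⟨a, ha, rfl⟩
      have := V₂.mul_mem (V₂.mul_mem (V₂.inv_mem hb) hm) hb
      simpa [MulAut.conj_apply, mul_assoc] using this
  obtain ⟨a, ha, b, hb, rfl⟩ := h.sup t ht
  rw [show a * b * v * (a * b)⁻¹ = a * (b * v * b⁻¹) * a⁻¹ by group]
  exact V₁.mul_mem (V₁.mul_mem ha (key b hb v hv)) (V₁.inv_mem ha)

theorem card_inf : Nat.card (V₁ ⊓ V₂ : Subgroup G) = 4 := by
  classical
  choose fa hfa fb hfb hfab using fun t : T => h.sup t t.2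
  let f : T × (V₁ ⊓ V₂ : Subgroup G) → V₁ × V₂ := fun p =>
    (⟨fa p.1 * p.2, V₁.mul_mem (hfa _) p.2.2.1⟩, ⟨(p.2 : G)⁻¹ * fb p.1, V₂.mul_mem (V₂.inv_mem p.2.2.2) (hfb _)⟩)
  have hf : Function.Bijective f := by
    constructor
    · rintro ⟨t, x⟩ ⟨t', x'⟩ e
      have e1 : fa t * (x : G) = fa t' * x' := congrArg (fun p : V₁ × V₂ => (p.1 : G)) e
      have e2 : (x : G)⁻¹ * fb t = (x' : G)⁻¹ * fb t' := congrArg (fun p : V₁ × V₂ => (p.2 : G)) e
      have et : t = t' := Subtype.ext (by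
        calc (t : G) = fa t * (x : G) * ((x : G)⁻¹ * fb t) := by rw [hfab t]; group
          _ = fa t' * (x' : G) * ((x' : G)⁻¹ * fb t') := by rw [e1, e2]
          _ = t' := by rw [hfab t']; group)
      subst et
      exact Prod.ext rfl (Subtype.ext (mul_left_cancel e1))
    · rintro ⟨a, b⟩
      have hm : (a : G) * b ∈ T := T.mul_mem (h.le₁ a.2) (h.le₂ b.2)
      set t : T := ⟨_, hm⟩ with ht
      have he : (fa t)⁻¹ * a = fb t * (b : G)⁻¹ := by
        rw [inv_mul_eq_iff_eq_mul, ← mul_assoc, ← hfab t, ht]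
        group
      refine ⟨(t, ⟨(fa t)⁻¹ * a, V₁.mul_mem (V₁.inv_mem (hfa _)) a.2, by
        rw [he]; exact V₂.mul_mem (hfb _) (V₂.inv_mem b.2)⟩), Prod.ext (Subtype.ext ?_) (Subtype.ext ?_)⟩
      · exact mul_inv_cancel_left _ _
      · show ((fa t)⁻¹ * (a : G))⁻¹ * fb t = b
        rw [he]; group
  have := Nat.card_eq_of_bijective f hf
  rw [Nat.card_prod, Nat.card_prod, h.card_T, h.card₁, h.card₂] at this
  omega

theorem central {z t : G} (hz₁ : z ∈ V₁) (hz₂ : z ∈ V₂) (ht : t ∈ T) : t * z = z * t := by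
  obtain ⟨a, ha, b, hb, rfl⟩ := h.sup t ht
  rw [mul_assoc, h.symm.comm₁ hb hz₂, ← mul_assoc, h.comm₁ ha hz₁, mul_assoc]

theorem not_commute {a b : G} (ha : a ∈ V₁) (ha' : a ∉ V₂) (hb : b ∈ V₂) (hb' : b ∉ V₁) :
    a * b ≠ b * a := by
  intro hab
  have hbZ : ∀ z ∈ V₁ ⊓ V₂, Commute z b := fun z hz => h.symm.comm₁ hz.2 hb
  have haZ : ∀ z ∈ V₁ ⊓ V₂, Commute z a := fun z hz => h.comm₁ hz.1 ha
  let A : Subgroup G :=
    { carrier := {x | ∃ z ∈ V₁ ⊓ V₂, ∃ u w : Bool, x = z * cond u a 1 * cond w b 1}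
      one_mem' := ⟨1, Subgroup.one_mem _, false, false, by simp⟩
      mul_mem' := by
        rintro _ _ ⟨z, hz, u, w, rfl⟩ ⟨z', hz', u', w', rfl⟩
        refine ⟨z * z', Subgroup.mul_mem _ hz hz', xor u u', xor w w', ?_⟩
        have c1 : Commute (cond w b 1) z' := by
          cases w
          · exact Commute.one_left _
          · exact (hbZ z' hz').symm
        have c2 : Commute (cond u a 1) z' := by
          cases u
          · exact Commute.one_left _
          · exact (haZ z' hz').symm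
        have c3 : Commute (cond w b 1) (cond u' a 1) := by
          cases w <;> cases u'
          · exact Commute.one_left _
          · exact Commute.one_left _
          · exact Commute.one_right _
          · exact hab.symm
        have e1 : cond u a 1 * cond u' a 1 = cond (xor u u') a 1 := by
          cases u <;> cases u' <;> simp [h.exp₁ a ha]
        have e2 : cond w b 1 * cond w' b 1 = cond (xor w w') b 1 := by
          cases w <;> cases w' <;> simp [h.exp₂ b hb]
        rw [← e1, ← e2]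
        calc z * cond u a 1 * cond w b 1 * (z' * cond u' a 1 * cond w' b 1)
            = z * cond u a 1 * (cond w b 1 * z') * cond u' a 1 * cond w' b 1 := by group
          _ = z * (cond u a 1 * z') * (cond w b 1 * cond u' a 1) * cond w' b 1 := by rw [c1.eq]; group
          _ = _ := by rw [c2.eq, c3.eq]; group
      inv_mem' := by
        rintro _ ⟨z, hz, u, w, rfl⟩
        refine ⟨z, hz, u, w, ?_⟩
        have hu : Commute z (cond u a 1) := by
          cases u
          · exact Commute.one_right _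
          · exact haZ z hz
        have hw : Commute z (cond w b 1) := by
          cases w
          · exact Commute.one_right _
          · exact hbZ z hz
        have huw : Commute (cond u a 1) (cond w b 1) := by
          cases u <;> cases w
          · exact Commute.one_left _
          · exact Commute.one_left _
          · exact Commute.one_right _
          · exact hab
        have e1 : (cond u a 1)⁻¹ = cond u a 1 := by
          cases u <;> simp [inv_eq_of_mul_eq_one_right (h.exp₁ a ha)]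
        have e2 : (cond w b 1)⁻¹ = cond w b 1 := by
          cases w <;> simp [inv_eq_of_mul_eq_one_right (h.exp₂ b hb)]
        rw [mul_inv_rev, mul_inv_rev, e1, e2, inv_eq_of_mul_eq_one_right (h.exp₁ z hz.1),
          ← hu.eq, ← (hw.mul_left huw).eq] }
  have hmem : ∀ z ∈ V₁ ⊓ V₂, ∀ u w : Bool, z * cond u a 1 * cond w b 1 ∈ A := fun z hz u w => ⟨z, hz, u, w, rfl⟩
  have hbij : Function.Bijective (fun p : (V₁ ⊓ V₂ : Subgroup G) × Bool × Bool =>
      (⟨_, hmem p.1 p.1.2 p.2.1 p.2.2⟩ : A)) := by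
    constructor
    · rintro ⟨z, u, w⟩ ⟨z', u', w'⟩ e
      have e' : (z : G) * cond u a 1 * cond w b 1 = z' * cond u' a 1 * cond w' b 1 := congrArg Subtype.val e
      have hw : w = w' := by
        by_contra hne
        apply hb'
        have hz1 := z.2.1
        have hz1' := z'.2.1
        cases w <;> cases w'
        · exact absurd rfl hne
        · simp only [Bool.cond_false, Bool.cond_true, mul_one] at e'
          have hb2 : b = ((z' : G) * cond u' a 1)⁻¹ * (z * cond u a 1) := by rw [e']; group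
          rw [hb2]
          refine V₁.mul_mem (V₁.inv_mem (V₁.mul_mem hz1' ?_)) (V₁.mul_mem hz1 ?_)
          · cases u' <;> simp [ha, V₁.one_mem]
          · cases u <;> simp [ha, V₁.one_mem]
        · simp only [Bool.cond_false, Bool.cond_true, mul_one] at e'
          have hb2 : b = ((z : G) * cond u a 1)⁻¹ * (z' * cond u' a 1) := by rw [← e']; group
          rw [hb2]
          refine V₁.mul_mem (V₁.inv_mem (V₁.mul_mem hz1 ?_)) (V₁.mul_mem hz1' ?_)
          · cases u <;> simp [ha, V₁.one_mem]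
          · cases u' <;> simp [ha, V₁.one_mem]
        · exact absurd rfl hne
      subst hw
      have e'' := mul_right_cancel e'
      have hu : u = u' := by
        by_contra hne
        apply ha'
        cases u <;> cases u'
        · exact absurd rfl hne
        · simp only [Bool.cond_false, Bool.cond_true, mul_one] at e''
          have ha2 : a = (z' : G)⁻¹ * z := by rw [e'']; group
          rw [ha2]; exact V₂.mul_mem (V₂.inv_mem z'.2.2) z.2.2
        · simp only [Bool.cond_false, Bool.cond_true, mul_one] at e''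
          have ha2 : a = (z : G)⁻¹ * z' := by rw [← e'']; group
          rw [ha2]; exact V₂.mul_mem (V₂.inv_mem z.2.2) z'.2.2
        · exact absurd rfl hne
      subst hu
      exact Prod.ext (Subtype.ext (mul_right_cancel e'')) rfl
    · rintro ⟨x, z, hz, u, w, rfl⟩
      exact ⟨(⟨z, hz⟩, u, w), rfl⟩
  have hcA : Nat.card A = 16 := by
    rw [← Nat.card_eq_of_bijective _ hbij, Nat.card_prod, h.card_inf, Nat.card_prod, Nat.card_eq_fintype_card,
      Fintype.card_bool]
  have hAT : A ≤ T := by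
    rintro _ ⟨z, hz, u, w, rfl⟩
    refine T.mul_mem (T.mul_mem (h.le₁ hz.1) ?_) ?_
    · cases u <;> simp [h.le₁ ha, T.one_mem]
    · cases w <;> simp [h.le₂ hb, T.one_mem]
  have hAe : ∀ x ∈ A, x * x = 1 := by
    intro x hx
    have hxi : x⁻¹ = x := by
      obtain ⟨z, hz, u, w, rfl⟩ := hx
      have hu : Commute z (cond u a 1) := by
        cases u
        · exact Commute.one_right _
        · exact haZ z hz
      have hw : Commute z (cond w b 1) := by
        cases w
        · exact Commute.one_right _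
        · exact hbZ z hz
      have huw : Commute (cond u a 1) (cond w b 1) := by
        cases u <;> cases w
        · exact Commute.one_left _
        · exact Commute.one_left _
        · exact Commute.one_right _
        · exact hab
      have e1 : (cond u a 1)⁻¹ = cond u a 1 := by
        cases u <;> simp [inv_eq_of_mul_eq_one_right (h.exp₁ a ha)]
      have e2 : (cond w b 1)⁻¹ = cond w b 1 := by
        cases w <;> simp [inv_eq_of_mul_eq_one_right (h.exp₂ b hb)]
      rw [mul_inv_rev, mul_inv_rev, e1, e2, inv_eq_of_mul_eq_one_right (h.exp₁ z hz.1),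
        ← hu.eq, ← (hw.mul_left huw).eq]
    calc x * x = x * x⁻¹ := by rw [hxi]
      _ = 1 := mul_inv_cancel x
  rcases h.only A hAT hAe hcA with e | e
  · exact hb' (e ▸ ⟨1, Subgroup.one_mem _, false, true, by simp⟩)
  · exact ha' (e ▸ ⟨1, Subgroup.one_mem _, true, false, by simp⟩)

theorem mem_of_sq {x : G} (hx : x ∈ T) (hx2 : x * x = 1) : x ∈ V₁ ∨ x ∈ V₂ := by
  obtain ⟨a, ha, b, hb, rfl⟩ := h.sup x hx
  by_cases ha' : a ∈ V₂
  · exact Or.inr (V₂.mul_mem ha' hb)
  by_cases hb' : b ∈ V₁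
  · exact Or.inl (V₁.mul_mem ha hb')
  exfalso
  apply h.not_commute ha ha' hb hb'
  have hab : (a * b)⁻¹ = a * b := inv_eq_of_mul_eq_one_right hx2
  rw [mul_inv_rev, inv_eq_of_mul_eq_one_right (h.exp₁ a ha), inv_eq_of_mul_eq_one_right (h.exp₂ b hb)] at hab
  exact hab.symm

theorem sq_mem_inf {x : G} (hx : x ∈ T) : x * x ∈ V₁ ⊓ V₂ := by
  obtain ⟨a, ha, b, hb, rfl⟩ := h.sup x hx
  have hai : a⁻¹ = a := inv_eq_of_mul_eq_one_right (h.exp₁ a ha)
  have hbi : b⁻¹ = b := inv_eq_of_mul_eq_one_right (h.exp₂ b hb)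
  constructor
  · rw [show a * b * (a * b) = a * (b * a * b⁻¹) by rw [hbi]; group]
    exact V₁.mul_mem ha (h.conj_mem₁ (h.le₂ hb) ha)
  · rw [show a * b * (a * b) = (a * b * a⁻¹) * b by rw [hai]; group]
    exact V₂.mul_mem (h.symm.conj_mem₁ (h.le₁ ha) hb) hb

theorem pow_four {x : G} (hx : x ∈ T) : x ^ 4 = 1 := by
  rw [show x ^ 4 = (x * x) * (x * x) by simp [pow_succ, mul_assoc]]
  exact h.exp₁ _ (h.sq_mem_inf hx).1

theorem exists_conj_mem {Q : Subgroup G} (hQ : IsPGroup 2 Q) : ∃ g : G, ∀ x ∈ Q, g * x * g⁻¹ ∈ T := by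
  haveI : Fact (Nat.Prime 2) := ⟨Nat.prime_two⟩
  have hT : IsPGroup 2 T := IsPGroup.of_card (n := 6) (by rw [h.card_T]; rfl)
  obtain ⟨P, hP⟩ := hQ.exists_le_sylow
  obtain ⟨S, hS⟩ := hT.exists_le_sylow
  have hST : (S : Subgroup G) = T := by
    symm
    refine Subgroup.eq_of_le_of_card_ge hS ?_
    obtain ⟨k, hk⟩ := IsPGroup.iff_card.1 S.2
    rw [h.card_T, hk]
    by_contra hlt
    push Not at hlt
    have : 7 ≤ k := by
      by_contra h7
      push Not at h7
      have := Nat.pow_le_pow_right (show 1 ≤ 2 by norm_num) (show k ≤ 6 by omega)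
      omega
    exact h.not_dvd ((show 128 ∣ 2 ^ k from pow_dvd_pow 2 this).trans (hk ▸ Subgroup.card_subgroup_dvd_card _))
  obtain ⟨g, hg⟩ := MulAction.exists_smul_eq G P S
  refine ⟨g, fun x hx => ?_⟩
  rw [← hST, ← hg]
  exact Subgroup.mem_map.2 ⟨x, hP hx, rfl⟩

theorem card_two_group_le {Q : Subgroup G} (hQ : IsPGroup 2 Q) : Nat.card Q ≤ 64 := by
  obtain ⟨g, hg⟩ := h.exists_conj_mem hQ
  rw [← h.card_T]
  exact Nat.card_le_card_of_injective (fun x : Q => (⟨g * x * g⁻¹, hg x x.2⟩ : T)) fun x y e => Subtype.ext (by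
    have := congrArg (fun z : T => g⁻¹ * (z : G) * g) e
    simpa [mul_assoc] using this)

theorem centralizer_eq {z : G} (hz : z ∈ V₁ ⊓ V₂) (hz1 : z ≠ 1) : Subgroup.centralizer ({z} : Set G) = T := by
  symm
  refine Subgroup.eq_of_le_of_card_ge
    (fun t ht => Subgroup.mem_centralizer_singleton_iff.2 (h.central hz.1 hz.2 ht)) ?_
  rw [h.card_T]
  exact h.card_two_group_le (h.cit z (IsI.orderOf_eq ⟨h.exp₁ z hz.1, hz1⟩))

theorem fuse₁ {u w : G} (hu : u ∈ V₁) (hu1 : u ≠ 1) (hw : w ∈ V₁) (hw1 : w ≠ 1) : IsConj u w := by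
  set N := Subgroup.normalizer (V₁ : Set G) with hN
  let act : MulAction N G :=
    { smul := fun g x => (g : G) * x * (g : G)⁻¹
      one_smul := fun x => by show ((1 : N) : G) * x * ((1 : N) : G)⁻¹ = x; simp
      mul_smul := fun a b x => by
        show ((a * b : N) : G) * x * ((a * b : N) : G)⁻¹ = a * (b * x * (b : G)⁻¹) * (a : G)⁻¹
        simp [mul_assoc] }
  letI := act
  have hsub : MulAction.orbit N u ⊆ (V₁ : Set G) \ {1} := by
    rintro _ ⟨g, rfl⟩
    refine ⟨(Subgroup.mem_normalizer_iff.1 g.2 u).1 hu, fun e => hu1 ?_⟩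
    have e' : (g : G) * u * (g : G)⁻¹ = 1 := e
    simpa [mul_assoc] using congrArg (fun z => (g : G)⁻¹ * z * g) e'
  have hp : IsPGroup 2 (MulAction.stabilizer N u) := by
    have hi := h.cit u (IsI.orderOf_eq ⟨h.exp₁ u hu, hu1⟩)
    refine hi.of_injective (MonoidHom.codRestrict (N.subtype.comp (MulAction.stabilizer N u).subtype)
      (Subgroup.centralizer ({u} : Set G)) fun g => ?_) ?_
    · have e : ((g : N) : G) * u * ((g : N) : G)⁻¹ = u := g.2
      exact Subgroup.mem_centralizer_singleton_iff.2 (mul_inv_eq_iff_eq_mul.1 e)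
    · intro a b e
      exact Subtype.ext (Subtype.ext (by simpa using congrArg Subtype.val e))
  haveI : Fact (Nat.Prime 2) := ⟨Nat.prime_two⟩
  obtain ⟨k, hk⟩ := IsPGroup.iff_card.1 hp
  have hk6 : k ≤ 6 := by
    by_contra h7
    push Not at h7
    have h1 : 2 ^ 7 ∣ 960 := h.norm₁ ▸ (pow_dvd_pow 2 h7).trans (hk ▸ Subgroup.card_subgroup_dvd_card _)
    norm_num at h1
  have hi := (MulAction.stabilizer N u).card_mul_index
  rw [hk, h.norm₁, MulAction.index_stabilizer] at hi
  have h15 : 15 ≤ (MulAction.orbit N u).ncard := by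
    have := Nat.pow_le_pow_right (show 1 ≤ 2 by norm_num) hk6
    by_contra hlt
    push Not at hlt
    have := Nat.mul_le_mul this (Nat.le_of_lt_succ hlt)
    omega
  have heq : MulAction.orbit N u = (V₁ : Set G) \ {1} := by
    refine Set.eq_of_subset_of_ncard_le hsub ?_ (Set.toFinite _)
    rw [Set.ncard_sdiff_singleton_of_mem (show (1 : G) ∈ (V₁ : Set G) from V₁.one_mem), ← Nat.card_coe_set_eq,
      SetLike.coe_sort_coe, h.card₁]
    omega
  have : w ∈ MulAction.orbit N u := by rw [heq]; exact ⟨hw, hw1⟩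
  obtain ⟨g, hg⟩ := this
  exact isConj_iff.2 ⟨g, hg⟩

theorem exists_central : ∃ z, z ∈ V₁ ⊓ V₂ ∧ z ≠ 1 := by
  have : 1 < Nat.card (V₁ ⊓ V₂ : Subgroup G) := by rw [h.card_inf]; norm_num
  haveI := Finite.one_lt_card_iff_nontrivial.1 this
  obtain ⟨⟨z, hz⟩, hne⟩ := exists_ne (1 : (V₁ ⊓ V₂ : Subgroup G))
  exact ⟨z, hz, fun e => hne (Subtype.ext e)⟩

theorem isConj_inv {v z : G} (hv : IsI v) (hz : z ∈ V₁ ⊓ V₂) (hz1 : z ≠ 1) : IsConj v z := by
  haveI : Fact (Nat.Prime 2) := ⟨Nat.prime_two⟩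
  obtain ⟨g, hg⟩ := h.exists_conj_mem (Q := Subgroup.zpowers v)
    (IsPGroup.of_card (n := 1) (by rw [Nat.card_zpowers, hv.orderOf_eq]; rfl))
  have hI := conj_isI g hv
  have h1 : IsConj v (g * v * g⁻¹) := isConj_iff.2 ⟨g, rfl⟩
  rcases h.mem_of_sq (hg v (Subgroup.mem_zpowers v)) hI.1 with hm | hm
  · exact h1.trans (h.fuse₁ hm hI.2 hz.1 hz1)
  · exact h1.trans (h.symm.fuse₁ hm hI.2 hz.2 hz1)

/-- An element commuting with an involution is conjugate into `T`. -/
theorem exists_conj_of_commute {v x : G} (hv : IsI v) (hc : Commute v x) : ∃ g : G, g * x * g⁻¹ ∈ T := by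
  obtain ⟨g, hg⟩ := h.exists_conj_mem (h.cit v hv.orderOf_eq)
  exact ⟨g, hg x (Subgroup.mem_centralizer_singleton_iff.2 hc.eq.symm)⟩

theorem rr_involution {u : G} (hu : IsI u) : rr u = 26 := by
  obtain ⟨z, hz, hz1⟩ := h.exists_central
  obtain ⟨g, rfl⟩ := isConj_iff.1 (h.isConj_inv hu hz hz1).symm
  rw [rr_conj]
  have hzz := h.exp₁ z hz.1
  have hset : {v : G | IsI v ∧ IsI (v * z)} = ((V₁ : Set G) ∪ (V₂ : Set G)) \ {1, z} := by
    ext v
    constructor
    · rintro ⟨hv, hvz⟩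
      have hc := inverts_of_isI hv hvz
      rw [inv_eq_of_mul_eq_one_right hzz, mul_inv_eq_iff_eq_mul] at hc
      have hvT : v ∈ T := by
        rw [← h.centralizer_eq hz hz1]
        exact Subgroup.mem_centralizer_singleton_iff.2 hc
      refine ⟨h.mem_of_sq hvT hv.1, ?_⟩
      simp only [Set.mem_insert_iff, Set.mem_singleton_iff, not_or]
      exact ⟨hv.2, fun e => hvz.2 (by rw [e, hzz])⟩
    · rintro ⟨hv12, hne⟩
      simp only [Set.mem_insert_iff, Set.mem_singleton_iff, not_or] at hne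
      have hv2 : v * v = 1 := hv12.elim (h.exp₁ v) (h.exp₂ v)
      refine ⟨⟨hv2, hne.1⟩, hv12.elim (fun hv => h.exp₁ _ (V₁.mul_mem hv hz.1))
        (fun hv => h.exp₂ _ (V₂.mul_mem hv hz.2)), fun e => hne.2 ?_⟩
      rw [eq_inv_of_mul_eq_one_left e, inv_eq_of_mul_eq_one_right hzz]
  have hU := Set.ncard_union_add_ncard_inter (V₁ : Set G) (V₂ : Set G)
  have e1 : (V₁ : Set G).ncard = 16 := by rw [← Nat.card_coe_set_eq, SetLike.coe_sort_coe, h.card₁]
  have e2 : (V₂ : Set G).ncard = 16 := by rw [← Nat.card_coe_set_eq, SetLike.coe_sort_coe, h.card₂]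
  have e3 : ((V₁ : Set G) ∩ (V₂ : Set G)).ncard = 4 := by
    rw [← Subgroup.coe_inf, ← Nat.card_coe_set_eq, SetLike.coe_sort_coe, h.card_inf]
  rw [rr, hset, Set.ncard_sdiff (by
    intro y hy
    rcases hy with rfl | rfl
    · exact Or.inl V₁.one_mem
    · exact Or.inl hz.1), Set.ncard_pair (Ne.symm hz1)]
  omega

theorem rr_four_aux {a b : G} (ha : a ∈ V₁) (ha' : a ∉ V₂) (hb : b ∈ V₂) (hb' : b ∉ V₁) :
    rr (a * b) = 8 := by
  have hai : a⁻¹ = a := inv_eq_of_mul_eq_one_right (h.exp₁ a ha)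
  have hab : a * b * a ∈ V₂ := by simpa [hai] using h.symm.conj_mem₁ (h.le₁ ha) hb
  have hx : a * b ∈ T := T.mul_mem (h.le₁ ha) (h.le₂ hb)
  have hx2 := h.sq_mem_inf hx
  have hx21 : a * b * (a * b) ≠ 1 := fun e => by
    rcases h.mem_of_sq hx e with hm | hm
    · exact hb' ((V₁.mul_mem_cancel_left ha).1 hm)
    · exact ha' ((V₂.mul_mem_cancel_right hb).1 hm)
  have hset : {v : G | IsI v ∧ IsI (v * (a * b))} =
      (fun z => z * a) '' ((V₁ ⊓ V₂ : Subgroup G) : Set G) ∪
        (fun z => z * (a * b * a)) '' ((V₁ ⊓ V₂ : Subgroup G) : Set G) := by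
    ext v
    constructor
    · rintro ⟨hv, hvx⟩
      have hc := inverts_of_isI hv hvx
      have hsq : v * (a * b * (a * b)) = a * b * (a * b) * v := by
        rw [← mul_inv_eq_iff_eq_mul]
        rw [show v * (a * b * (a * b)) * v⁻¹ = v * (a * b) * v⁻¹ * (v * (a * b) * v⁻¹) by group, hc, ← mul_inv_rev,
          inv_eq_of_mul_eq_one_right (h.exp₁ _ hx2.1)]
      have hvT : v ∈ T := by
        rw [← h.centralizer_eq hx2 hx21]
        exact Subgroup.mem_centralizer_singleton_iff.2 hsq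
      rcases h.mem_of_sq hvT hv.1 with hv1 | hv2 <;>
        rcases h.mem_of_sq (T.mul_mem hvT hx) hvx.1 with hw1 | hw2
      · rw [← mul_assoc] at hw1
        exact absurd ((V₁.mul_mem_cancel_left (V₁.mul_mem hv1 ha)).1 hw1) hb'
      · rw [← mul_assoc] at hw2
        have hva : v * a ∈ V₁ ⊓ V₂ := ⟨V₁.mul_mem hv1 ha, (V₂.mul_mem_cancel_right hb).1 hw2⟩
        exact Or.inl ⟨v * a, hva, by show v * a * a = v; rw [mul_assoc, h.exp₁ a ha, mul_one]⟩
      · refine Or.inr ⟨v * (a * b * a)⁻¹, ⟨?_, V₂.mul_mem hv2 (V₂.inv_mem hab)⟩, inv_mul_cancel_right _ _⟩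
        have hinv : (a * b * a)⁻¹ = a * b * a := inv_eq_of_mul_eq_one_right (h.exp₂ _ hab)
        rw [hinv, ← mul_assoc]
        exact V₁.mul_mem hw1 ha
      · exfalso
        rw [← mul_assoc] at hw2
        exact ha' ((V₂.mul_mem_cancel_left hv2).1 ((V₂.mul_mem_cancel_right hb).1 hw2))
    · rintro (⟨z, hz, rfl⟩ | ⟨z, hz, rfl⟩)
      · refine ⟨⟨h.exp₁ _ (V₁.mul_mem hz.1 ha), fun e => ha' ?_⟩, ?_, fun e => hb' ?_⟩
        · rw [eq_inv_of_mul_eq_one_right e]; exact V₂.inv_mem hz.2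
        · show z * a * (a * b) * (z * a * (a * b)) = 1
          rw [show z * a * (a * b) = z * (a * a) * b by group, h.exp₁ a ha, mul_one]
          exact h.exp₂ _ (V₂.mul_mem hz.2 hb)
        · have e' : z * a * (a * b) = 1 := e
          rw [show z * a * (a * b) = z * (a * a) * b by group, h.exp₁ a ha, mul_one] at e'
          rw [eq_inv_of_mul_eq_one_right e']; exact V₁.inv_mem hz.1
      · have key : z * (a * b * a) * (a * b) = z * a := by
          rw [show z * (a * b * a) * (a * b) = z * a * (b * (a * a) * b) by group, h.exp₁ a ha, mul_one,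
            h.exp₂ b hb, mul_one]
        refine ⟨⟨h.exp₂ _ (V₂.mul_mem hz.2 hab), fun e => hb' ?_⟩, ?_⟩
        · have e1 : a * b * a ∈ V₁ := by rw [eq_inv_of_mul_eq_one_right e]; exact V₁.inv_mem hz.1
          exact (V₁.mul_mem_cancel_left ha).1 ((V₁.mul_mem_cancel_right ha).1 e1)
        · show IsI (z * (a * b * a) * (a * b))
          rw [key]
          refine ⟨h.exp₁ _ (V₁.mul_mem hz.1 ha), fun e => ha' ?_⟩
          rw [eq_inv_of_mul_eq_one_right e]; exact V₂.inv_mem hz.2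
  have hdis : Disjoint ((fun z => z * a) '' ((V₁ ⊓ V₂ : Subgroup G) : Set G))
      ((fun z => z * (a * b * a)) '' ((V₁ ⊓ V₂ : Subgroup G) : Set G)) := by
    rw [Set.disjoint_left]
    rintro _ ⟨z, hz, rfl⟩ ⟨z', hz', e⟩
    have e' : z * a = z' * (a * b * a) := e.symm
    exact ha' ((V₂.mul_mem_cancel_left hz.2).1 (e' ▸ V₂.mul_mem hz'.2 hab))
  rw [rr, hset, Set.ncard_union_eq hdis, Set.ncard_image_of_injective _ (mul_left_injective a),
    Set.ncard_image_of_injective _ (mul_left_injective _), ← Nat.card_coe_set_eq, SetLike.coe_sort_coe, h.card_inf]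

theorem exists_decomp_four {x : G} (hx : x ∈ T) (hx2 : x * x ≠ 1) :
    ∃ a ∈ V₁, ∃ b ∈ V₂, a ∉ V₂ ∧ b ∉ V₁ ∧ x = a * b := by
  obtain ⟨a, ha, b, hb, rfl⟩ := h.sup x hx
  exact ⟨a, ha, b, hb, fun ha' => hx2 (h.exp₂ _ (V₂.mul_mem ha' hb)),
    fun hb' => hx2 (h.exp₁ _ (V₁.mul_mem ha hb')), rfl⟩

theorem rr_four {x : G} (hx : IsI (x * x)) : rr x = 8 := by
  obtain ⟨g, hg⟩ := h.exists_conj_of_commute hx (Commute.mul_left (Commute.refl x) (Commute.refl x))
  rw [← rr_conj g x]
  obtain ⟨a, ha, b, hb, ha', hb', e⟩ := h.exists_decomp_four hg (by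
    rw [show g * x * g⁻¹ * (g * x * g⁻¹) = g * (x * x) * g⁻¹ by group]
    exact (conj_isI g hx).2)
  rw [e]
  exact h.rr_four_aux ha ha' hb hb'

theorem card_sq_fibre {u : G} (hu : u ∈ V₁ ⊓ V₂) (hu1 : u ≠ 1) : {x : G | x * x = u}.ncard = 12 := by
  classical
  have hsubT : ∀ x : G, x * x = u → x ∈ T := fun x hx => by
    rw [← h.centralizer_eq hu hu1]
    refine Subgroup.mem_centralizer_singleton_iff.2 ?_
    rw [← hx]; group
  let Z : Subgroup G := V₁ ⊓ V₂
  have hZc : Nat.card Z = 4 := h.card_inf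
  have hZV : Nat.card (Z.subgroupOf V₂) = 4 := by
    rw [Nat.card_congr (Subgroup.subgroupOfEquivOfLe (inf_le_right : V₁ ⊓ V₂ ≤ V₂)).toEquiv]; exact hZc
  let A := {a : G // a ∈ V₁ ∧ a ∉ V₂}
  let Fib : A → Type _ := fun a => {b : G // b ∈ V₂ ∧ a.1 * b * (a.1 * b) = u}
  have hfib : ∀ a : A, Nat.card (Fib a) = 4 := by
    rintro ⟨a, ha, ha'⟩
    have hai : a⁻¹ = a := inv_eq_of_mul_eq_one_right (h.exp₁ a ha)
    let φ : V₂ →* Z :=
      { toFun := fun b => ⟨a * b * (a * b), h.sq_mem_inf (T.mul_mem (h.le₁ ha) (h.le₂ b.2))⟩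
        map_one' := Subtype.ext (by simp [h.exp₁ a ha])
        map_mul' := fun b c => Subtype.ext (by
          show a * ((b : G) * c) * (a * ((b : G) * c)) = a * b * (a * b) * (a * c * (a * c))
          have hca : a * c * a ∈ V₂ := by simpa [hai] using h.symm.conj_mem₁ (h.le₁ ha) c.2
          have e := h.symm.comm₁ hca b.2
          calc a * ((b : G) * c) * (a * ((b : G) * c))
              = a * b * (a * a) * c * a * b * c := by rw [h.exp₁ a ha]; group
            _ = a * b * a * (a * c * a * b) * c := by group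
            _ = a * b * a * (b * (a * c * a)) * c := by rw [e]
            _ = a * b * (a * b) * (a * c * (a * c)) := by group) }
    have hker : φ.ker = Z.subgroupOf V₂ := by
      ext b
      rw [MonoidHom.mem_ker, Subgroup.mem_subgroupOf]
      constructor
      · intro hb
        have hb' : a * b * (a * b) = 1 := congrArg Subtype.val hb
        rcases h.mem_of_sq (T.mul_mem (h.le₁ ha) (h.le₂ b.2)) hb' with hm | hm
        · exact ⟨(V₁.mul_mem_cancel_left ha).1 hm, b.2⟩
        · exact absurd ((V₂.mul_mem_cancel_right b.2).1 hm) ha'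
      · intro hb
        exact Subtype.ext (h.exp₁ _ (V₁.mul_mem ha hb.1))
    have hidx := φ.ker.card_mul_index
    rw [hker, hZV, h.card₂, ← hker, Subgroup.index_ker] at hidx
    have htop : φ.range = ⊤ := Subgroup.eq_top_of_card_eq _ (by rw [hZc]; omega)
    obtain ⟨b₀, hb₀⟩ := MonoidHom.range_eq_top.1 htop ⟨u, hu⟩
    rw [← hZV, ← hker]
    refine Nat.card_congr
      { toFun := fun b => ⟨b₀⁻¹ * ⟨b.1, b.2.1⟩, by
          rw [MonoidHom.mem_ker, map_mul, map_inv, hb₀, inv_mul_eq_one]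
          exact Subtype.ext b.2.2.symm⟩
        invFun := fun k => ⟨((b₀ * k : V₂) : G), (b₀ * k : V₂).2, by
          have := congrArg Subtype.val (show φ (b₀ * k) = ⟨u, hu⟩ by rw [map_mul, k.2, mul_one, hb₀])
          exact this⟩
        left_inv := fun b => Subtype.ext (by simp)
        right_inv := fun k => Subtype.ext (Subtype.ext (by simp)) }
  have hA : Nat.card A = 12 := by
    have e : Nat.card A = ((V₁ : Set G) \ (V₂ : Set G)).ncard := by
      rw [← Nat.card_coe_set_eq]; rfl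
    rw [e]
    have := Set.ncard_inter_add_ncard_sdiff_eq_ncard (V₁ : Set G) (V₂ : Set G)
    rw [← Subgroup.coe_inf, ← Nat.card_coe_set_eq, ← Nat.card_coe_set_eq (V₁ : Set G), SetLike.coe_sort_coe,
      SetLike.coe_sort_coe, h.card_inf, h.card₁] at this
    omega
  have hsigma : Nat.card (Σ a, Fib a) = 48 := by
    haveI : Fintype A := Fintype.ofFinite A
    rw [Nat.card_sigma, Finset.sum_congr rfl (fun a _ => hfib a), Finset.sum_const, Finset.card_univ,
      ← Nat.card_eq_fintype_card, hA, smul_eq_mul]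
  choose fa hfa fb hfb hfa' hfb' hfab using fun x : {x : G // x * x = u} =>
    h.exists_decomp_four (hsubT x x.2) (by rw [x.2]; exact hu1)
  let f : {x : G // x * x = u} × Z → Σ a, Fib a := fun p =>
    ⟨⟨fa p.1 * p.2, V₁.mul_mem (hfa _) p.2.2.1, fun e => hfa' p.1 ((V₂.mul_mem_cancel_right p.2.2.2).1 e)⟩,
      ⟨(p.2 : G)⁻¹ * fb p.1, V₂.mul_mem (V₂.inv_mem p.2.2.2) (hfb _), by
        show fa p.1 * (p.2 : G) * ((p.2 : G)⁻¹ * fb p.1) * (fa p.1 * (p.2 : G) * ((p.2 : G)⁻¹ * fb p.1)) = u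
        rw [show fa p.1 * (p.2 : G) * ((p.2 : G)⁻¹ * fb p.1) = fa p.1 * fb p.1 by group, ← hfab]
        exact p.1.2⟩⟩
  have hf : Function.Bijective f := by
    constructor
    · rintro ⟨x, z⟩ ⟨x', z'⟩ e
      have e1 : fa x * (z : G) = fa x' * z' := congrArg (fun q : Σ a, Fib a => q.1.1) e
      have e2 : (z : G)⁻¹ * fb x = (z' : G)⁻¹ * fb x' := congrArg (fun q : Σ a, Fib a => q.2.1) e
      have et : x = x' := Subtype.ext (by
        calc (x : G) = fa x * (z : G) * ((z : G)⁻¹ * fb x) := by rw [hfab x]; group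
          _ = fa x' * (z' : G) * ((z' : G)⁻¹ * fb x') := by rw [e1, e2]
          _ = x' := by rw [hfab x']; group)
      subst et
      exact Prod.ext rfl (Subtype.ext (mul_left_cancel e1))
    · rintro ⟨⟨a, ha, ha'⟩, ⟨b, hb, hab⟩⟩
      set x : {x : G // x * x = u} := ⟨a * b, hab⟩ with hxdef
      have he : (fa x)⁻¹ * a = fb x * b⁻¹ := by
        rw [inv_mul_eq_iff_eq_mul, ← mul_assoc, ← hfab x, hxdef]
        group
      have hzmem : (fa x)⁻¹ * a ∈ Z :=
        ⟨V₁.mul_mem (V₁.inv_mem (hfa x)) ha, by rw [he]; exact V₂.mul_mem (hfb x) (V₂.inv_mem hb)⟩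
      refine ⟨(x, ⟨_, hzmem⟩), ?_⟩
      have p1 : fa x * ((fa x)⁻¹ * a) = a := mul_inv_cancel_left _ _
      refine Sigma.ext (Subtype.ext p1) ?_
      refine (Subtype.heq_iff_coe_eq ?_).2 ?_
      · intro w
        show (w ∈ V₂ ∧ fa x * ((fa x)⁻¹ * a) * w * (fa x * ((fa x)⁻¹ * a) * w) = u) ↔ _
        rw [p1]
      · show ((fa x)⁻¹ * a)⁻¹ * fb x = b
        rw [he]; group
  have := Nat.card_eq_of_bijective f hf
  rw [hsigma, Nat.card_prod, hZc] at this
  rw [← Nat.card_coe_set_eq]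
  show Nat.card {x : G // x * x = u} = 12
  omega

end CITData

end CfsgLib.PSL34
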