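import Cfsg.Agent.PSL34.CITLocal

/-!
# CIT groups with a Sylow 2-subgroup of order 64: real elements of odd order

Centralisers of real elements of odd order are abelian TI subgroups; their normalisers.
-/

set_option autoImplicit false
set_option linter.style.haveILetI false
set_option linter.unusedSectionVars false

namespace CfsgLib.PSL34

open CfsgLib.CITThreePrime

/-- Real non-identity element of odd order. -/
def RealOdd {G : Type*} [Group G] (x : G) : Prop :=
  x ≠ 1 ∧ Odd (orderOf x) ∧ ∃ v, IsI v ∧ v * x * v⁻¹ = x⁻¹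

/-- The centraliser of an element. -/
abbrev cent {G : Type*} [Group G] (x : G) : Subgroup G := Subgroup.centralizer ({x} : Set G)

namespace CITData

variable {G : Type*} [Group G] [Finite G] {T V₁ V₂ : Subgroup G} (h : CITData T V₁ V₂)
include h

theorem odd_cent {x : G} (hx1 : x ≠ 1) (hx : Odd (orderOf x)) : Odd (Nat.card (cent x)) := by
  haveI : Fact (Nat.Prime 2) := ⟨Nat.prime_two⟩
  by_contra hne
  obtain ⟨t, ht⟩ := exists_prime_orderOf_dvd_card' (G := cent x) 2
    (even_iff_two_dvd.1 (Nat.not_odd_iff_even.1 hne))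
  refine hx1 (h.cit.eq_one_of_odd (t := (t : G)) (by rw [Subgroup.orderOf_coe]; exact ht) ?_ hx)
  exact Subgroup.mem_centralizer_singleton_iff.1 t.2

theorem not_isI_mem_cent {x v : G} (hx1 : x ≠ 1) (hx : Odd (orderOf x)) (hv : IsI v) : v ∉ cent x := fun hm =>
  hx1 (h.cit.eq_one_of_odd hv.orderOf_eq (Subgroup.mem_centralizer_singleton_iff.1 hm) hx)

theorem odd_orderOf_of_mem {x a : G} (hx1 : x ≠ 1) (hx : Odd (orderOf x)) (ha : a ∈ cent x) :
    Odd (orderOf a) :=
  (h.odd_cent hx1 hx).of_dvd_nat (Subgroup.orderOf_dvd_natCard _ ha)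

theorem conj_mem_cent {x v a : G} (hvx : v * x * v⁻¹ = x⁻¹) (hv : IsI v) (ha : a ∈ cent x) :
    v * a * v ∈ cent x := by
  rw [Subgroup.mem_centralizer_singleton_iff] at ha ⊢
  have hvxv : v * x * v = x⁻¹ := by rwa [hv.inv_eq] at hvx
  have hc : a * x⁻¹ = x⁻¹ * a := (Commute.inv_right ha).eq
  have e1 : v * x = x⁻¹ * v := by
    calc v * x = v * x * (v * v) := by rw [hv.1, mul_one]
      _ = x⁻¹ * v := by rw [← mul_assoc, hvxv]
  have e2 : x * v = v * x⁻¹ := by
    calc x * v = v * v * (x * v) := by rw [hv.1, one_mul]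
      _ = v * (v * x * v) := by group
      _ = v * x⁻¹ := by rw [hvxv]
  calc v * a * v * x = v * a * (v * x) := by group
    _ = v * (a * x⁻¹) * v := by rw [e1]; group
    _ = v * x⁻¹ * a * v := by rw [hc]; group
    _ = x * (v * a * v) := by rw [← e2]; group

/-- An involution inverting `x` inverts the whole centraliser of `x`. -/
theorem inverts_cent {x v a : G} (hx1 : x ≠ 1) (hx : Odd (orderOf x)) (hv : IsI v)
    (hvx : v * x * v⁻¹ = x⁻¹) (ha : a ∈ cent x) : v * a * v = a⁻¹ := by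
  let f : cent x → cent x := fun b => ⟨(b : G)⁻¹ * (v * b * v),
    Subgroup.mul_mem _ (Subgroup.inv_mem _ b.2) (h.conj_mem_cent hvx hv b.2)⟩
  have hinj : Function.Injective f := by
    intro b c e
    have e' : (b : G)⁻¹ * (v * b * v) = (c : G)⁻¹ * (v * c * v) := congrArg Subtype.val e
    have hcomm : Commute v ((c : G) * (b : G)⁻¹) := by
      show v * ((c : G) * (b : G)⁻¹) = (c : G) * (b : G)⁻¹ * v
      calc v * ((c : G) * (b : G)⁻¹) = v * c * v * (v * v)⁻¹ * v * (b : G)⁻¹ := by group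
        _ = c * ((c : G)⁻¹ * (v * c * v)) * v * (b : G)⁻¹ := by rw [hv.1]; group
        _ = c * ((b : G)⁻¹ * (v * b * v)) * v * (b : G)⁻¹ := by rw [e']
        _ = c * (b : G)⁻¹ * v * b * (v * v) * (b : G)⁻¹ := by group
        _ = (c : G) * (b : G)⁻¹ * v := by rw [hv.1]; group
    have h1 := h.cit.eq_one_of_odd hv.orderOf_eq hcomm
      (h.odd_orderOf_of_mem hx1 hx (Subgroup.mul_mem _ c.2 (Subgroup.inv_mem _ b.2)))
    exact Subtype.ext (mul_inv_eq_one.1 h1).symm
  obtain ⟨b, hb⟩ := (Finite.injective_iff_surjective.1 hinj) ⟨a, ha⟩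
  have hb' : (b : G)⁻¹ * (v * b * v) = a := congrArg Subtype.val hb
  rw [← hb']
  calc v * ((b : G)⁻¹ * (v * b * v)) * v = v * (b : G)⁻¹ * v * b * (v * v) := by group
    _ = v * (b : G)⁻¹ * v * b := by rw [hv.1, mul_one]
    _ = v⁻¹ * (b : G)⁻¹ * v⁻¹ * b := by rw [hv.inv_eq]
    _ = ((b : G)⁻¹ * (v * b * v))⁻¹ := by group

theorem comm_cent {x a b : G} (hx : RealOdd x) (ha : a ∈ cent x) (hb : b ∈ cent x) : a * b = b * a := by
  obtain ⟨hx1, ho, v, hv, hvx⟩ := hx
  have h1 := h.inverts_cent hx1 ho hv hvx (Subgroup.mul_mem _ ha hb)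
  have h2 := h.inverts_cent hx1 ho hv hvx ha
  have h3 := h.inverts_cent hx1 ho hv hvx hb
  have e : v * (a * b) * v = (v * a * v) * (v * b * v) := by
    rw [show (v * a * v) * (v * b * v) = v * a * (v * v) * b * v by group, hv.1]; group
  rw [e, h2, h3, mul_inv_rev] at h1
  have := congrArg (fun z => z⁻¹) h1
  simpa using this.symm

theorem realOdd_of_mem {x y : G} (hx : RealOdd x) (hy : y ∈ cent x) (hy1 : y ≠ 1) : RealOdd y := by
  obtain ⟨hx1, ho, v, hv, hvx⟩ := hx
  exact ⟨hy1, h.odd_orderOf_of_mem hx1 ho hy, v, hv, by rw [hv.inv_eq]; exact h.inverts_cent hx1 ho hv hvx hy⟩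

theorem cent_eq {x y : G} (hx : RealOdd x) (hy : y ∈ cent x) (hy1 : y ≠ 1) : cent y = cent x := by
  have hy' := h.realOdd_of_mem hx hy hy1
  have hxy : x ∈ cent y := by
    rw [Subgroup.mem_centralizer_singleton_iff] at hy ⊢
    exact hy.symm
  ext a
  constructor
  · intro ha
    rw [Subgroup.mem_centralizer_singleton_iff]
    exact h.comm_cent hy' ha hxy
  · intro ha
    rw [Subgroup.mem_centralizer_singleton_iff]
    exact h.comm_cent hx ha hy

theorem mem_cent_self (x : G) : x ∈ cent x := Subgroup.mem_centralizer_singleton_iff.2 rfl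

theorem rr_real {x : G} (hx1 : x ≠ 1) (hx : Odd (orderOf x)) {v : G} (hv : IsI v)
    (hvx : v * x * v⁻¹ = x⁻¹) : rr x = Nat.card (cent x) := by
  have hset : {w : G | IsI w ∧ IsI (w * x)} = (fun a => v * a) '' (cent x : Set G) := by
    ext w
    constructor
    · rintro ⟨hw, hwx⟩
      have h1 := inverts_of_isI hw hwx
      refine ⟨v * w, ?_, by show v * (v * w) = w; rw [← mul_assoc, hv.1, one_mul]⟩
      rw [SetLike.mem_coe, Subgroup.mem_centralizer_singleton_iff]
      calc v * w * x = v * (w * x * w⁻¹) * w := by group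
        _ = v * x⁻¹ * w := by rw [h1]
        _ = v * x⁻¹ * v⁻¹ * (v * w) := by group
        _ = (v * x * v⁻¹)⁻¹ * (v * w) := by group
        _ = x * (v * w) := by rw [hvx, inv_inv]
    · rintro ⟨a, ha, rfl⟩
      have key : ∀ c ∈ cent x, IsI (v * c) := by
        intro c hc
        refine ⟨?_, fun e => h.not_isI_mem_cent hx1 hx hv ?_⟩
        · rw [← mul_assoc, h.inverts_cent hx1 hx hv hvx hc, inv_mul_cancel]
        · rw [eq_inv_of_mul_eq_one_left e]; exact Subgroup.inv_mem _ hc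
      refine ⟨key a ha, ?_⟩
      show IsI (v * a * x)
      rw [mul_assoc]
      exact key _ (Subgroup.mul_mem _ ha (h.mem_cent_self x))
  rw [rr, hset, Set.ncard_image_of_injective _ (mul_right_injective v), ← Nat.card_coe_set_eq,
    SetLike.coe_sort_coe]

theorem card_le_four {H : Subgroup G} (hH : H ≤ T) {z : G} (huniq : ∀ w ∈ H, IsI w → w = z) :
    Nat.card H ≤ 8 := by
  have hinter : Nat.card (H ⊓ V₁ : Subgroup G) ≤ 2 := by
    have hsub : ((H ⊓ V₁ : Subgroup G) : Set G) ⊆ {1, z} := by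
      intro w hw
      by_cases hw1 : w = 1
      · exact Or.inl hw1
      · exact Or.inr (huniq w hw.1 ⟨h.exp₁ w hw.2, hw1⟩)
    rw [← SetLike.coe_sort_coe, Nat.card_coe_set_eq]
    refine (Set.ncard_le_ncard hsub (Set.toFinite _)).trans ?_
    exact (Set.ncard_insert_le _ _).trans (by rw [Set.ncard_singleton])
  have hidx : V₁.relIndex T = 4 := by
    have := (V₁.subgroupOf T).card_mul_index
    rw [Nat.card_congr (Subgroup.subgroupOfEquivOfLe h.le₁).toEquiv, h.card₁, h.card_T] at this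
    show (V₁.subgroupOf T).index = 4
    omega
  have hle : V₁.relIndex H ≤ 4 := hidx ▸ Subgroup.relIndex_le_of_le_right hH (by rw [hidx]; norm_num)
  have hc := (V₁.subgroupOf H).card_mul_index
  rw [← Subgroup.inf_subgroupOf_right V₁ H,
    Nat.card_congr (Subgroup.subgroupOfEquivOfLe (inf_le_right : V₁ ⊓ H ≤ H)).toEquiv, inf_comm] at hc
  have hle' : ((H ⊓ V₁).subgroupOf H).index ≤ 4 := by
    rw [inf_comm, Subgroup.inf_subgroupOf_right]; exact hle
  rw [← hc]
  exact (Nat.mul_le_mul hinter hle').trans (by norm_num)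

/-- The normaliser of the centraliser of a real element of odd order. -/
theorem normalizer_cent {x : G} (hx : RealOdd x) :
    ∃ k : ℕ, (k = 2 ∨ k = 4 ∨ k = 8) ∧
      Nat.card (Subgroup.normalizer (cent x : Set G)) = Nat.card (cent x) * k ∧
      (Nat.card (cent x) - 1) % k = 0 := by
  classical
  haveI : Fact (Nat.Prime 2) := ⟨Nat.prime_two⟩
  obtain ⟨hx1, ho, v, hv, hvx⟩ := hx
  have hxR : RealOdd x := ⟨hx1, ho, v, hv, hvx⟩
  set A := cent x with hA
  set N := Subgroup.normalizer (A : Set G) with hN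
  have hvN : v ∈ N := by
    refine Subgroup.mem_normalizer_fintype (S := (A : Set G)) fun a ha => ?_
    rw [hv.inv_eq, h.inverts_cent hx1 ho hv hvx ha]
    exact A.inv_mem ha
  set H := cent v ⊓ N with hH
  have hAN : A ≤ N := Subgroup.le_normalizer
  have hdis : ∀ a ∈ A, a ∈ H → a = 1 := fun a ha haH =>
    h.cit.eq_one_of_odd hv.orderOf_eq (Subgroup.mem_centralizer_singleton_iff.1 haH.1).symm
      (h.odd_orderOf_of_mem hx1 ho ha)
  have hsurj : ∀ n ∈ N, ∃ d ∈ A, ∃ c ∈ H, d * c = n := by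
    intro n hn
    have hc : v * n * v * n⁻¹ ∈ A := by
      rw [hA, Subgroup.mem_centralizer_singleton_iff, ← mul_inv_eq_iff_eq_mul]
      have e1 : n⁻¹ * x * n ∈ A := by
        simpa using (Subgroup.mem_normalizer_iff.1 (N.inv_mem hn) x).1 (h.mem_cent_self x)
      have e2 := h.inverts_cent hx1 ho hv hvx e1
      calc v * n * v * n⁻¹ * x * (v * n * v * n⁻¹)⁻¹
          = v * n * (v * (n⁻¹ * x * n) * v⁻¹) * n⁻¹ * v⁻¹ := by group
        _ = v * n * (n⁻¹ * x * n)⁻¹ * n⁻¹ * v⁻¹ := by rw [hv.inv_eq, e2]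
        _ = (v * x * v⁻¹)⁻¹ := by group
        _ = x := by rw [hvx, inv_inv]
    set c := v * n * v * n⁻¹ with hcdef
    obtain ⟨j, hj⟩ := h.odd_orderOf_of_mem hx1 ho hc
    set d := c ^ (j + 1) with hd
    have hdA : d ∈ A := A.pow_mem hc _
    have hdd : d * d = c := by
      rw [hd, ← pow_add, show j + 1 + (j + 1) = orderOf c + 1 by omega, pow_succ, pow_orderOf_eq_one, one_mul]
    refine ⟨d⁻¹, A.inv_mem hdA, d * n, ⟨?_, N.mul_mem (hAN hdA) hn⟩, inv_mul_cancel_left _ _⟩
    show d * n ∈ cent v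
    rw [Subgroup.mem_centralizer_singleton_iff]
    have e3 : v * (d * n) * v = d * n := by
      calc v * (d * n) * v = v * d * (v * v) * n * v := by rw [hv.1]; group
        _ = (v * d * v) * (v * n * v * n⁻¹) * n := by group
        _ = d⁻¹ * (d * d) * n := by rw [h.inverts_cent hx1 ho hv hvx hdA, ← hcdef, hdd]
        _ = d * n := by group
    calc d * n * v = v * (d * n) * (v * v) := by rw [show v * (d * n) * (v * v) = v * (d * n) * v * v by group, e3]
      _ = v * (d * n) := by rw [hv.1, mul_one]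
  have hcard : Nat.card N = Nat.card A * Nat.card H := by
    let f : A × H → N := fun p => ⟨(p.1 : G) * p.2, N.mul_mem (hAN p.1.2) p.2.2.2⟩
    have hf : Function.Bijective f := by
      constructor
      · rintro ⟨a, c⟩ ⟨a', c'⟩ e
        have e' : (a : G) * c = a' * c' := congrArg Subtype.val e
        have h3 : (a' : G)⁻¹ * a = c' * (c : G)⁻¹ := by
          rw [inv_mul_eq_iff_eq_mul, ← mul_assoc, ← e', mul_inv_cancel_right]
        have h4 := hdis _ (A.mul_mem (A.inv_mem a'.2) a.2) (h3 ▸ H.mul_mem c'.2 (H.inv_mem c.2))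
        have ha : a' = a := Subtype.ext (inv_mul_eq_one.1 h4)
        subst ha
        exact Prod.ext rfl (Subtype.ext (mul_left_cancel e'))
      · rintro ⟨n, hn⟩
        obtain ⟨d, hd, c, hc, e⟩ := hsurj n hn
        exact ⟨(⟨d, hd⟩, ⟨c, hc⟩), Subtype.ext e⟩
    rw [← Nat.card_eq_of_bijective f hf, Nat.card_prod]
  have hH2 : IsPGroup 2 H := (h.cit v hv.orderOf_eq).to_le inf_le_left
  have hvH : v ∈ H := ⟨Subgroup.mem_centralizer_singleton_iff.2 rfl, hvN⟩
  have hmemcent : ∀ c ∈ H, c ∈ A → c = 1 := fun c hc hca => hdis c hca hc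
  have huniq : ∀ w ∈ H, IsI w → w = v := by
    intro w hw hwI
    have hwA : ∀ a ∈ A, w * a * w⁻¹ = a⁻¹ := fun a ha =>
      h.cit.inverts (E := A) (fun p hp q hq => h.comm_cent hxR hp hq) (h.odd_cent hx1 ho) hwI.orderOf_eq
        (fun e he => (Subgroup.mem_normalizer_iff.1 hw.2 e).1 he) ha
    have h1 : v * w ∈ A := by
      rw [hA, Subgroup.mem_centralizer_singleton_iff]
      calc v * w * x = v * (w * x * w⁻¹) * w := by group
        _ = v * x⁻¹ * w := by rw [hwA x (h.mem_cent_self x)]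
        _ = (v * x * v⁻¹)⁻¹ * (v * w) := by group
        _ = x * (v * w) := by rw [hvx, inv_inv]
    have h2 := hmemcent _ (H.mul_mem hvH hw) h1
    rw [← inv_eq_of_mul_eq_one_right h2, hv.inv_eq]
  obtain ⟨g, hg⟩ := h.exists_conj_mem hH2
  have h8 : Nat.card H ≤ 8 := by
    rw [Nat.card_congr (H.equivMapOfInjective (MulAut.conj g).toMonoidHom (MulAut.conj g).injective).toEquiv]
    refine h.card_le_four (z := g * v * g⁻¹) ?_ ?_
    · rintro _ ⟨c, hc, rfl⟩; exact hg c hc
    · rintro _ ⟨c, hc, rfl⟩ hI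
      have : IsI c := by
        have := conj_isI g⁻¹ hI
        simpa [MulAut.conj_apply, mul_assoc] using this
      rw [huniq c hc this]; rfl
  obtain ⟨k, hk⟩ := IsPGroup.iff_card.1 hH2
  refine ⟨Nat.card H, ?_, hcard, ?_⟩
  · have hk1 : 1 ≤ k := by
      by_contra hk0
      have h1 : Nat.card H = 1 := by rw [hk, show k = 0 by omega]; rfl
      have := Subgroup.eq_bot_of_card_eq H h1
      exact hv.2 (Subgroup.mem_bot.1 (this ▸ hvH))
    have hk3 : k ≤ 3 := by
      by_contra hk4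
      push Not at hk4
      have := Nat.pow_le_pow_right (show 1 ≤ 2 by norm_num) hk4
      omega
    rcases (by omega : k = 1 ∨ k = 2 ∨ k = 3) with rfl | rfl | rfl
    · exact Or.inl hk
    · exact Or.inr (Or.inl hk)
    · exact Or.inr (Or.inr hk)
  · let X := {a : G // a ∈ A ∧ a ≠ 1}
    let act : MulAction H X :=
      { smul := fun c a => ⟨(c : G) * a.1 * (c : G)⁻¹, (Subgroup.mem_normalizer_iff.1 c.2.2 a.1).1 a.2.1,
          fun e => a.2.2 (by simpa [mul_assoc] using congrArg (fun z => (c : G)⁻¹ * z * (c : G)) e)⟩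
        one_smul := fun a => Subtype.ext (by
          show ((1 : H) : G) * a.1 * ((1 : H) : G)⁻¹ = a.1
          simp)
        mul_smul := fun c d a => Subtype.ext (by
          show ((c * d : H) : G) * a.1 * ((c * d : H) : G)⁻¹ =
            (c : G) * ((d : G) * a.1 * (d : G)⁻¹) * (c : G)⁻¹
          simp [mul_assoc]) }
    letI := act
    have hfree : ∀ a : X, MulAction.stabilizer H a = ⊥ := by
      intro a
      rw [eq_bot_iff]
      intro c hc
      rw [Subgroup.mem_bot]
      have e : (c : G) * a.1 * (c : G)⁻¹ = a.1 := congrArg Subtype.val (MulAction.mem_stabilizer_iff.1 hc)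
      apply Subtype.ext
      refine hmemcent c c.2 ?_
      show (c : G) ∈ cent x
      rw [← h.cent_eq hxR a.2.1 a.2.2, Subgroup.mem_centralizer_singleton_iff]
      exact mul_inv_eq_iff_eq_mul.1 e
    haveI : Fintype (MulAction.orbitRel.Quotient H X) := Fintype.ofFinite _
    have hX : Nat.card X = Nat.card A - 1 := by
      have e : Nat.card X = ((A : Set G) \ {1}).ncard := by rw [← Nat.card_coe_set_eq]; rfl
      rw [e, Set.ncard_sdiff_singleton_of_mem (show (1 : G) ∈ (A : Set G) from A.one_mem), ← Nat.card_coe_set_eq,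
        SetLike.coe_sort_coe]
    rw [← hX, Nat.card_congr (MulAction.selfEquivSigmaOrbits' H X), Nat.card_sigma]
    rw [Finset.sum_congr rfl (fun ω _ => ?_)]
    · rw [Finset.sum_const, smul_eq_mul]; exact Nat.mul_mod_left _ (Nat.card H)
    · induction ω using Quotient.inductionOn' with
      | h a =>
        show Nat.card (MulAction.orbit H a) = Nat.card H
        rw [Nat.card_coe_set_eq, ← MulAction.index_stabilizer, hfree a, Subgroup.index_bot]

theorem exists_sylow_le {x : G} (hx : RealOdd x) {p : ℕ} [Fact p.Prime] (hp : p ∣ Nat.card (cent x)) :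
    ∃ P : Sylow p G, (P : Subgroup G) ≤ cent x := by
  obtain ⟨⟨y, hy⟩, hord⟩ := exists_prime_orderOf_dvd_card' (G := cent x) p hp
  have hy1 : y ≠ 1 := by
    rintro rfl
    have : orderOf (⟨1, hy⟩ : cent x) = 1 := orderOf_eq_one_iff.2 rfl
    rw [hord] at this
    exact (Fact.out : p.Prime).ne_one this
  have hpg : IsPGroup p (Subgroup.zpowers y) := IsPGroup.of_card (n := 1) (by
    rw [Nat.card_zpowers, pow_one, ← hord, Subgroup.orderOf_mk])
  obtain ⟨P, hP⟩ := hpg.exists_le_sylow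
  refine ⟨P, fun u hu => ?_⟩
  haveI : Nontrivial (P : Subgroup G) := ⟨⟨⟨y, hP (Subgroup.mem_zpowers y)⟩, 1, fun e => hy1 (congrArg Subtype.val e)⟩⟩
  haveI := P.2.center_nontrivial
  obtain ⟨⟨⟨z, hzP⟩, hzc⟩, hzne⟩ := exists_ne (1 : Subgroup.center (P : Subgroup G))
  have hz1 : z ≠ 1 := fun e => hzne (Subtype.ext (Subtype.ext e))
  have hcomm : ∀ w ∈ (P : Subgroup G), w * z = z * w := fun w hw =>
    congrArg Subtype.val (Subgroup.mem_center_iff.1 hzc ⟨w, hw⟩)
  have hzA : z ∈ cent x := by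
    rw [← h.cent_eq hx hy hy1, Subgroup.mem_centralizer_singleton_iff]
    exact (hcomm y (hP (Subgroup.mem_zpowers y))).symm
  rw [← h.cent_eq hx hzA hz1, Subgroup.mem_centralizer_singleton_iff]
  exact hcomm u hu

theorem cent_conj {x g : G} : cent (g * x * g⁻¹) = (cent x).map (MulAut.conj g).toMonoidHom := by
  ext a
  rw [Subgroup.mem_map_equiv, MulAut.conj_symm_apply, Subgroup.mem_centralizer_singleton_iff,
    Subgroup.mem_centralizer_singleton_iff]
  constructor
  · intro e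
    calc g⁻¹ * a * g * x = g⁻¹ * (a * (g * x * g⁻¹)) * g := by group
      _ = g⁻¹ * (g * x * g⁻¹ * a) * g := by rw [e]
      _ = x * (g⁻¹ * a * g) := by group
  · intro e
    calc a * (g * x * g⁻¹) = g * (g⁻¹ * a * g * x) * g⁻¹ := by group
      _ = g * (x * (g⁻¹ * a * g)) * g⁻¹ := by rw [e]
      _ = g * x * g⁻¹ * a := by group

theorem realOdd_conj {x : G} (g : G) (hx : RealOdd x) : RealOdd (g * x * g⁻¹) := by
  obtain ⟨h1, h2, v, hv, hvx⟩ := hx
  refine ⟨fun e => h1 (by simpa [mul_assoc] using congrArg (fun z => g⁻¹ * z * g) e), ?_,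
    g * v * g⁻¹, conj_isI g hv, ?_⟩
  · rw [show g * x * g⁻¹ = MulAut.conj g x from rfl, MulEquiv.orderOf_eq]; exact h2
  · rw [show g * v * g⁻¹ * (g * x * g⁻¹) * (g * v * g⁻¹)⁻¹ = g * (v * x * v⁻¹) * g⁻¹ by group, hvx]
    group

/-- Centralisers of coprime-free orders are conjugate. -/
theorem exists_conj_cent {x y : G} (hx : RealOdd x) (hy : RealOdd y) {p : ℕ} [Fact p.Prime]
    (hpx : p ∣ Nat.card (cent x)) (hpy : p ∣ Nat.card (cent y)) : ∃ g : G, cent (g * x * g⁻¹) = cent y := by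
  obtain ⟨P, hP⟩ := h.exists_sylow_le hx hpx
  obtain ⟨Q, hQ⟩ := h.exists_sylow_le hy hpy
  obtain ⟨g, hg⟩ := MulAction.exists_smul_eq G P Q
  refine ⟨g, ?_⟩
  have hne : (Q : Subgroup G) ≠ ⊥ := Q.ne_bot_of_dvd_card (hpy.trans (Subgroup.card_subgroup_dvd_card _))
  obtain ⟨q, hq, hq1⟩ := (Subgroup.ne_bot_iff_exists_ne_one.1 hne) |> fun ⟨q, hq⟩ =>
    (⟨q.1, q.2, fun e => hq (Subtype.ext e)⟩ : ∃ q, q ∈ (Q : Subgroup G) ∧ q ≠ 1)
  have hq' : q ∈ cent (g * x * g⁻¹) := by
    rw [h.cent_conj]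
    have : q ∈ ((P : Subgroup G).map (MulAut.conj g).toMonoidHom) := by rw [← hg] at hq; exact hq
    exact Subgroup.map_mono hP this
  rw [← h.cent_eq (h.realOdd_conj g hx) hq' hq1, h.cent_eq hy (hQ hq) hq1]

end CITData

end CfsgLib.PSL34
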