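import Cfsg.Agent.Chars.Apps.Burnside
import Mathlib.GroupTheory.SpecificGroups.Alternating
import Mathlib.GroupTheory.GroupAction.Quotient
import Mathlib.GroupTheory.SpecificGroups.Alternating.Simple
import Mathlib.Tactic

/-!
# Two parabolic subgroups of shape `2⁴:A₅` in a simple group of order 20160

The coset geometry of the two subgroups is a projective plane of order four, in which the normal
subgroups of order 16 are translation groups.
-/

set_option autoImplicit false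
set_option linter.style.haveILetI false
set_option linter.unusedSectionVars false

namespace CfsgLib.PSL34

open scoped Pointwise

variable {G : Type*} [Group G]

/-- Two subgroups of order 960 with elementary abelian normal subgroups of order 16. -/
structure Parab (P₁ P₂ V₁ V₂ : Subgroup G) : Prop where
  card_G : Nat.card G = 20160
  card_p₁ : Nat.card P₁ = 960
  card_p₂ : Nat.card P₂ = 960
  card_v₁ : Nat.card V₁ = 16
  card_v₂ : Nat.card V₂ = 16
  exp₁ : ∀ v ∈ V₁, v * v = 1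
  exp₂ : ∀ v ∈ V₂, v * v = 1
  norm₁ : ∀ g ∈ P₁, ∀ v ∈ V₁, g * v * g⁻¹ ∈ V₁
  norm₂ : ∀ g ∈ P₂, ∀ v ∈ V₂, g * v * g⁻¹ ∈ V₂
  le₁₁ : V₁ ≤ P₁
  le₂₂ : V₂ ≤ P₂
  le₁₂ : V₁ ≤ P₂
  le₂₁ : V₂ ≤ P₁
  ns₁ : ¬ Group.IsSolvable P₁
  ns₂ : ¬ Group.IsSolvable P₂
  inter : Nat.card (P₁ ⊓ P₂ : Subgroup G) = 192
  vinter : Nat.card (V₁ ⊓ V₂ : Subgroup G) = 4

theorem Parab.symm {P₁ P₂ V₁ V₂ : Subgroup G} (h : Parab P₁ P₂ V₁ V₂) : Parab P₂ P₁ V₂ V₁ where
  card_G := h.card_G
  card_p₁ := h.card_p₂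
  card_p₂ := h.card_p₁
  card_v₁ := h.card_v₂
  card_v₂ := h.card_v₁
  exp₁ := h.exp₂
  exp₂ := h.exp₁
  norm₁ := h.norm₂
  norm₂ := h.norm₁
  le₁₁ := h.le₂₂
  le₂₂ := h.le₁₁
  le₁₂ := h.le₂₁
  le₂₁ := h.le₁₂
  ns₁ := h.ns₂
  ns₂ := h.ns₁
  inter := by rw [inf_comm]; exact h.inter
  vinter := by rw [inf_comm]; exact h.vinter

/-- Incidence of cosets. -/
def Inc (P₁ P₂ : Subgroup G) (x : G ⧸ P₁) (y : G ⧸ P₂) : Prop :=
  ∃ g : G, (g : G ⧸ P₁) = x ∧ (g : G ⧸ P₂) = y

theorem inc_symm {P₁ P₂ : Subgroup G} {x : G ⧸ P₁} {y : G ⧸ P₂} : Inc P₂ P₁ y x ↔ Inc P₁ P₂ x y :=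
  ⟨fun ⟨g, a, b⟩ => ⟨g, b, a⟩, fun ⟨g, a, b⟩ => ⟨g, b, a⟩⟩

theorem Inc.smul {P₁ P₂ : Subgroup G} {x : G ⧸ P₁} {y : G ⧸ P₂} (h : Inc P₁ P₂ x y) (g : G) :
    Inc P₁ P₂ (g • x) (g • y) := by
  obtain ⟨a, rfl, rfl⟩ := h
  exact ⟨g * a, rfl, rfl⟩

theorem inc_smul_iff {P₁ P₂ : Subgroup G} {x : G ⧸ P₁} {y : G ⧸ P₂} (g : G) :
    Inc P₁ P₂ (g • x) (g • y) ↔ Inc P₁ P₂ x y :=
  ⟨fun h => by simpa [smul_smul] using h.smul g⁻¹, fun h => h.smul g⟩

theorem inc_base_iff {P₁ P₂ : Subgroup G} {x : G ⧸ P₁} :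
    Inc P₁ P₂ x ((1 : G) : G ⧸ P₂) ↔ ∃ b ∈ P₂, (b : G ⧸ P₁) = x := by
  constructor
  · rintro ⟨g, rfl, hg⟩
    exact ⟨g, by simpa using QuotientGroup.eq.1 hg, rfl⟩
  · rintro ⟨b, hb, rfl⟩
    exact ⟨b, rfl, QuotientGroup.eq.2 (by simpa using hb)⟩

theorem coe_eq_one_iff {P : Subgroup G} {g : G} : (g : G ⧸ P) = ((1 : G) : G ⧸ P) ↔ g ∈ P := by
  rw [QuotientGroup.eq]; simp

theorem smul_coe_one_eq_iff {P : Subgroup G} {g : G} :
    g • ((1 : G) : G ⧸ P) = ((1 : G) : G ⧸ P) ↔ g ∈ P := by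
  rw [MulAction.Quotient.smul_coe, smul_eq_mul, mul_one, coe_eq_one_iff]

theorem smul_coe_eq_iff {P : Subgroup G} {g a : G} :
    g • (a : G ⧸ P) = (a : G ⧸ P) ↔ a⁻¹ * g * a ∈ P := by
  rw [MulAction.Quotient.smul_coe, smul_eq_mul, eq_comm, QuotientGroup.eq, mul_assoc]

theorem perm_five : ∀ σ : Equiv.Perm (Fin 5), Equiv.Perm.sign σ = 1 → σ * σ = 1 →
    ∀ i j : Fin 5, i ≠ j → σ i = i → σ j = j → σ = 1 := by decide +kernel

theorem card_of_nonsolvable (R : Subgroup (Equiv.Perm (Fin 5))) (hd : Nat.card R ∣ 60)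
    (hns : ¬ Group.IsSolvable R) : R = alternatingGroup (Fin 5) := by
  have hS5 : Nat.card (Equiv.Perm (Fin 5)) = 120 := by
    rw [Nat.card_perm, Nat.card_fin]; rfl
  have hA : Nat.card (alternatingGroup (Fin 5)) = 60 := by
    rw [Nat.card_eq_fintype_card]; decide
  have hle : Nat.card R ≤ 60 := Nat.le_of_dvd (by norm_num) hd
  have hnd : ¬ Nat.card R ∣ 12 ∧ ¬ Nat.card R ∣ 20 ∧ ¬ Nat.card R ∣ 15 := by
    refine ⟨fun h => hns ?_, fun h => hns ?_, fun h => hns ?_⟩
    · refine CfsgLib.Chars.Apps.isSolvable_of_primeFactors_subset R Nat.prime_two Nat.prime_three fun r hr hd => ?_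
      have := Nat.le_of_dvd (by norm_num) (hd.trans h)
      have h' := hd.trans h
      interval_cases r <;> first | exact Or.inl rfl | exact Or.inr rfl | omega | (norm_num at hr; done)
    · refine CfsgLib.Chars.Apps.isSolvable_of_primeFactors_subset R Nat.prime_two Nat.prime_five fun r hr hd => ?_
      have := Nat.le_of_dvd (by norm_num) (hd.trans h)
      have h' := hd.trans h
      interval_cases r <;> first | exact Or.inl rfl | exact Or.inr rfl | omega | (norm_num at hr; done)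
    · refine CfsgLib.Chars.Apps.isSolvable_of_primeFactors_subset R Nat.prime_three Nat.prime_five fun r hr hd => ?_
      have := Nat.le_of_dvd (by norm_num) (hd.trans h)
      have h' := hd.trans h
      interval_cases r <;> first | exact Or.inl rfl | exact Or.inr rfl | omega | (norm_num at hr; done)
  have h3060 : Nat.card R = 30 ∨ Nat.card R = 60 := by
    obtain ⟨h1, h2, h3⟩ := hnd
    have key : ∀ n < 61, n ∣ 60 → ¬ n ∣ 12 → ¬ n ∣ 20 → ¬ n ∣ 15 → n = 30 ∨ n = 60 := by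
      intro n hn
      interval_cases n <;> omega
    exact key _ (Nat.lt_succ_of_le hle) hd h1 h2 h3
  rcases h3060 with h30 | h60
  · exfalso
    have hsdvd := R.relIndex_dvd_index_of_normal (H := alternatingGroup (Fin 5))
    have hidx : (alternatingGroup (Fin 5)).index = 2 := by
      have := (alternatingGroup (Fin 5)).card_mul_index
      rw [hA, hS5] at this
      omega
    rw [hidx] at hsdvd
    set I := (alternatingGroup (Fin 5)).subgroupOf R with hI
    have hmul : Nat.card I * (alternatingGroup (Fin 5)).relIndex R = 30 := by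
      rw [Subgroup.relIndex, ← hI, Subgroup.card_mul_index, h30]
    rcases (Nat.dvd_prime Nat.prime_two).1 hsdvd with h1 | h2
    · have hRA : R ≤ alternatingGroup (Fin 5) := Subgroup.relIndex_eq_one.1 h1
      haveI : IsSimpleGroup (alternatingGroup (Fin 5)) := alternatingGroup.isSimpleGroup (by simp)
      have h2 : (R.subgroupOf (alternatingGroup (Fin 5))).index = 2 := by
        have := (R.subgroupOf (alternatingGroup (Fin 5))).card_mul_index
        rw [Nat.card_congr (Subgroup.subgroupOfEquivOfLe hRA).toEquiv, h30, hA] at this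
        omega
      haveI := Subgroup.normal_of_index_eq_two h2
      rcases IsSimpleGroup.eq_bot_or_eq_top_of_normal (R.subgroupOf (alternatingGroup (Fin 5))) inferInstance
        with h | h
      · rw [h, Subgroup.index_bot, hA] at h2
        omega
      · rw [h, Subgroup.index_top] at h2
        omega
    · rw [h2] at hmul
      have h15 : Nat.card I = 15 := by omega
      have hIs : Group.IsSolvable I :=
        CfsgLib.Chars.Apps.isSolvable_of_card_eq_pow_mul_pow I (a := 1) (b := 1) Nat.prime_three Nat.prime_five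
          (by rw [h15]; rfl)
      haveI : I.Normal := (inferInstance : (alternatingGroup (Fin 5)).Normal).subgroupOf R
      haveI := hIs
      have hq : Nat.card (R ⧸ I) = 2 := h2
      haveI : Fact (Nat.Prime 2) := ⟨Nat.prime_two⟩
      haveI : IsCyclic (R ⧸ I) := isCyclic_of_prime_card hq
      haveI : Group.IsSolvable (R ⧸ I) :=
        CfsgLib.Chars.Apps.isSolvable_of_card_eq_pow_mul_pow _ (a := 1) (b := 0) Nat.prime_two Nat.prime_three
          (by rw [hq]; rfl)
      exact hns (Group.isSolvable_of_ker_le_range I.subtype (QuotientGroup.mk' I) (by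
        rw [QuotientGroup.ker_mk', Subgroup.range_subtype]))
  · apply Equiv.Perm.eq_alternatingGroup_of_index_eq_two
    have := R.card_mul_index
    rw [h60, hS5] at this
    omega

namespace Parab

variable {P₁ P₂ V₁ V₂ : Subgroup G} [Finite G] (h : Parab P₁ P₂ V₁ V₂)
include h

theorem index_eq : P₁.index = 21 := by
  have := P₁.card_mul_index
  rw [h.card_p₁, h.card_G] at this
  omega

theorem card_points : Nat.card (G ⧸ P₁) = 21 := h.index_eq

theorem relIndex_eq : P₁.relIndex P₂ = 5 := by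
  have := (P₁.subgroupOf P₂).card_mul_index
  have e : Nat.card (P₁.subgroupOf P₂) = 192 := by
    rw [← Subgroup.inf_subgroupOf_right P₁ P₂,
      Nat.card_congr (Subgroup.subgroupOfEquivOfLe (inf_le_right : P₁ ⊓ P₂ ≤ P₂)).toEquiv, h.inter]
  rw [e, h.card_p₂] at this
  show (P₁.subgroupOf P₂).index = 5
  omega

theorem ncard_base : {x | Inc P₁ P₂ x ((1 : G) : G ⧸ P₂)}.ncard = 5 := by
  have e : {x | Inc P₁ P₂ x ((1 : G) : G ⧸ P₂)} = MulAction.orbit P₂ ((1 : G) : G ⧸ P₁) := by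
    ext x
    rw [Set.mem_setOf_eq, inc_base_iff]
    constructor
    · rintro ⟨b, hb, rfl⟩
      exact ⟨⟨b, hb⟩, by show b • ((1 : G) : G ⧸ P₁) = _; rw [MulAction.Quotient.smul_coe, smul_eq_mul, mul_one]⟩
    · rintro ⟨b, rfl⟩
      exact ⟨b, b.2, by show _ = (b : G) • ((1 : G) : G ⧸ P₁); rw [MulAction.Quotient.smul_coe, smul_eq_mul, mul_one]⟩
  rw [e, ← MulAction.index_stabilizer, ← h.relIndex_eq]
  show _ = (P₁.subgroupOf P₂).index
  congr 1
  ext b
  rw [MulAction.mem_stabilizer_iff, Subgroup.mem_subgroupOf]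
  exact smul_coe_one_eq_iff

theorem ncard_line (y : G ⧸ P₂) : {x | Inc P₁ P₂ x y}.ncard = 5 := by
  induction y using QuotientGroup.induction_on with
  | H g =>
    rw [← h.ncard_base, ← Set.ncard_image_of_injective {x | Inc P₁ P₂ x ((1 : G) : G ⧸ P₂)}
      (MulAction.injective g)]
    congr 1
    ext x
    have e : (g : G ⧸ P₂) = g • ((1 : G) : G ⧸ P₂) := by
      rw [MulAction.Quotient.smul_coe, smul_eq_mul, mul_one]
    constructor
    · intro hx
      refine ⟨g⁻¹ • x, ?_, smul_inv_smul g x⟩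
      rw [Set.mem_setOf_eq, ← inc_smul_iff g, smul_inv_smul, ← e]
      exact hx
    · rintro ⟨x', hx', rfl⟩
      show Inc P₁ P₂ (g • x') _
      rw [e]
      exact hx'.smul g

/-- Conjugates into `P₁` of `V₁` by elements of `P₂` outside `P₁`. -/
theorem reg {g v : G} (hg : g ∈ P₂) (hg' : g ∉ P₁) (hv : v ∈ V₁) (hgv : g⁻¹ * v * g ∈ P₁) : v ∈ V₂ := by
  classical
  have hidx : (P₁.subgroupOf P₂).index = 5 := h.relIndex_eq
  let X := P₂ ⧸ P₁.subgroupOf P₂
  have hX : Nat.card X = 5 := hidx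
  let e : X ≃ Fin 5 := Finite.equivFinOfCardEq hX
  let π : P₂ →* Equiv.Perm (Fin 5) := e.permCongrHom.toMonoidHom.comp (MulAction.toPermHom P₂ X)
  have hker : ∀ b : P₂, b ∈ π.ker ↔ ∀ x : X, b • x = x := by
    intro b
    rw [MonoidHom.mem_ker]
    constructor
    · intro hb x
      have := congrArg (fun σ : Equiv.Perm (Fin 5) => σ (e x)) hb
      simpa [π, Equiv.permCongr_apply] using this
    · intro hb
      ext i
      simp [π, Equiv.permCongr_apply, hb]
  have hV₂ : V₂.subgroupOf P₂ ≤ π.ker := by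
    intro b hb
    rw [hker]
    intro x
    induction x using QuotientGroup.induction_on with
    | H a =>
      rw [MulAction.Quotient.smul_coe, smul_eq_mul, eq_comm, QuotientGroup.eq, Subgroup.mem_subgroupOf]
      have := h.norm₂ _ (P₂.inv_mem a.2) _ (Subgroup.mem_subgroupOf.1 hb)
      rw [inv_inv] at this
      simpa [mul_assoc] using h.le₂₁ this
  have hle : π.ker ≤ P₁.subgroupOf P₂ := by
    intro b hb
    have := (hker b).1 hb ((1 : P₂) : X)
    rw [MulAction.Quotient.smul_coe, smul_eq_mul, mul_one, coe_eq_one_iff] at this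
    exact this
  have hcV : Nat.card (V₂.subgroupOf P₂) = 16 := by
    rw [Nat.card_congr (Subgroup.subgroupOfEquivOfLe h.le₂₂).toEquiv, h.card_v₂]
  have hcB : Nat.card (P₁.subgroupOf P₂) = 192 := by
    have := (P₁.subgroupOf P₂).card_mul_index
    rw [hidx, h.card_p₂] at this
    omega
  have h1 : 16 ∣ Nat.card π.ker := hcV ▸ Subgroup.card_dvd_of_le hV₂
  have h2 : Nat.card π.ker ∣ 192 := hcB ▸ Subgroup.card_dvd_of_le hle
  have hmul : Nat.card π.ker * Nat.card π.range = 960 := by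
    rw [← Subgroup.index_ker, Subgroup.card_mul_index, h.card_p₂]
  have hks : Group.IsSolvable π.ker := by
    refine CfsgLib.Chars.Apps.isSolvable_of_primeFactors_subset _ Nat.prime_two Nat.prime_three fun r hr hd => ?_
    have h' : r ∣ 2 ^ 6 * 3 := hd.trans h2
    rcases hr.dvd_mul.1 h' with h'' | h''
    · exact Or.inl ((Nat.prime_dvd_prime_iff_eq hr Nat.prime_two).1 (hr.dvd_of_dvd_pow h''))
    · exact Or.inr ((Nat.prime_dvd_prime_iff_eq hr Nat.prime_three).1 h'')
  have hrns : ¬ Group.IsSolvable π.range := fun hr => h.ns₂ (by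
    haveI := hr; haveI := hks
    exact Group.isSolvable_of_ker_le_range π.ker.subtype π.rangeRestrict (by
      rw [MonoidHom.ker_rangeRestrict, Subgroup.range_subtype]))
  have hd60 : Nat.card π.range ∣ 60 := by
    obtain ⟨t, ht⟩ := h1
    exact ⟨t, by rw [ht] at hmul; nlinarith⟩
  have hA := card_of_nonsolvable π.range hd60 hrns
  have hkV : π.ker = V₂.subgroupOf P₂ := by
    symm
    refine Subgroup.eq_of_le_of_card_ge hV₂ ?_
    have hA' : Nat.card π.range = 60 := by rw [hA, Nat.card_eq_fintype_card]; decide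
    rw [hA'] at hmul
    omega
  have hvP : v ∈ P₂ := h.le₁₂ hv
  have hev : Equiv.Perm.sign (π ⟨v, hvP⟩) = 1 := by
    rw [← Equiv.Perm.mem_alternatingGroup, ← hA]; exact ⟨_, rfl⟩
  have hsq : π ⟨v, hvP⟩ * π ⟨v, hvP⟩ = 1 := by
    rw [← map_mul, show (⟨v, hvP⟩ * ⟨v, hvP⟩ : P₂) = 1 from Subtype.ext (h.exp₁ v hv), map_one]
  have hne : ((1 : P₂) : X) ≠ ((⟨g, hg⟩ : P₂) : X) := by
    rw [Ne, eq_comm, coe_eq_one_iff]; exact hg'
  have hfix1 : (⟨v, hvP⟩ : P₂) • ((1 : P₂) : X) = ((1 : P₂) : X) := by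
    rw [MulAction.Quotient.smul_coe, smul_eq_mul, mul_one, coe_eq_one_iff]; exact h.le₁₁ hv
  have hfix2 : (⟨v, hvP⟩ : P₂) • ((⟨g, hg⟩ : P₂) : X) = ((⟨g, hg⟩ : P₂) : X) := by
    rw [smul_coe_eq_iff]; exact hgv
  have hone := perm_five _ hev hsq (e ((1 : P₂) : X)) (e ((⟨g, hg⟩ : P₂) : X)) (e.injective.ne hne)
    (by simp [π, Equiv.permCongr_apply, hfix1]) (by simp [π, Equiv.permCongr_apply, hfix2])
  have : (⟨v, hvP⟩ : P₂) ∈ π.ker := MonoidHom.mem_ker.2 hone
  rw [hkV] at this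
  exact Subgroup.mem_subgroupOf.1 this

end Parab

end CfsgLib.PSL34
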