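import Cfsg.Agent.PSL34.Parabolic

/-!
# The plane of two parabolic subgroups of shape `2⁴:A₅`

The coset geometry is a projective plane of order four (`join`, `meet`, `line_unique`) and the
second normal subgroup is regular on the points off the base line.
-/

set_option autoImplicit false
set_option linter.style.haveILetI false
set_option linter.unusedSectionVars false

namespace CfsgLib.PSL34

open scoped Pointwise

variable {G : Type*} [Group G] [Finite G] {P₁ P₂ V₁ V₂ : Subgroup G}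

/-- The base point. -/
abbrev pt0 (P₁ : Subgroup G) : G ⧸ P₁ := ((1 : G) : G ⧸ P₁)

theorem smul_pt0 {P : Subgroup G} (g : G) : g • pt0 P = (g : G ⧸ P) := by
  rw [pt0, MulAction.Quotient.smul_coe, smul_eq_mul, mul_one]

theorem inv_smul_coe {P : Subgroup G} (g : G) : g⁻¹ • (g : G ⧸ P) = pt0 P := by
  rw [MulAction.Quotient.smul_coe, smul_eq_mul, inv_mul_cancel]

namespace Parab

variable (h : Parab P₁ P₂ V₁ V₂)
include h

theorem fix_base {v : G} (hv : v ∈ V₂) {x : G ⧸ P₁} (hx : Inc P₁ P₂ x (pt0 P₂)) : v • x = x := by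
  obtain ⟨b, hb, rfl⟩ := inc_base_iff.1 hx
  rw [smul_coe_eq_iff]
  refine h.le₂₁ ?_
  simpa using h.norm₂ b⁻¹ (P₂.inv_mem hb) v hv

theorem fix_pencil_zero {v : G} (hv : v ∈ V₁) {y : G ⧸ P₂} (hy : Inc P₁ P₂ (pt0 P₁) y) : v • y = y :=
  h.symm.fix_base hv (inc_symm.2 hy)

theorem inc_zero : Inc P₁ P₂ (pt0 P₁) (pt0 P₂) := ⟨1, rfl, rfl⟩

theorem ncard_base_erase : ({x | Inc P₁ P₂ x (pt0 P₂)} \ {pt0 P₁}).ncard = 4 := by
  rw [Set.ncard_sdiff_singleton_of_mem (show pt0 P₁ ∈ {x | Inc P₁ P₂ x (pt0 P₂)} from h.inc_zero),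
    h.ncard_line]

theorem trans_line {x x' : G ⧸ P₁} (hx : Inc P₁ P₂ x (pt0 P₂)) (hx1 : x ≠ pt0 P₁)
    (hx' : Inc P₁ P₂ x' (pt0 P₂)) (hx1' : x' ≠ pt0 P₁) : ∃ v ∈ V₁, v • x = x' := by
  have hsub : MulAction.orbit V₁ x ⊆ {x | Inc P₁ P₂ x (pt0 P₂)} \ {pt0 P₁} := by
    rintro _ ⟨v, rfl⟩
    refine ⟨?_, fun he => hx1 ?_⟩
    · have e : (v : G) • pt0 P₂ = pt0 P₂ := smul_coe_one_eq_iff.2 (h.le₁₂ v.2)
      show Inc P₁ P₂ ((v : G) • x) (pt0 P₂)
      rw [← e]; exact hx.smul _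
    · have he' : (v : G) • x = pt0 P₁ := he
      have e : (v : G)⁻¹ • pt0 P₁ = pt0 P₁ := smul_coe_one_eq_iff.2 (P₁.inv_mem (h.le₁₁ v.2))
      rw [← he', inv_smul_smul] at e
      exact e.trans he'
  have hst : MulAction.stabilizer V₁ x = V₂.subgroupOf V₁ := by
    ext v
    rw [MulAction.mem_stabilizer_iff, Subgroup.mem_subgroupOf]
    refine ⟨fun hv => ?_, fun hv => h.fix_base hv hx⟩
    obtain ⟨b, hb, rfl⟩ := inc_base_iff.1 hx
    exact h.reg hb (fun hb' => hx1 (coe_eq_one_iff.2 hb')) v.2 (smul_coe_eq_iff.1 hv)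
  have hidx : (V₂.subgroupOf V₁).index = 4 := by
    have := (V₂.subgroupOf V₁).card_mul_index
    rw [← Subgroup.inf_subgroupOf_right V₂ V₁,
      Nat.card_congr (Subgroup.subgroupOfEquivOfLe (inf_le_right : V₂ ⊓ V₁ ≤ V₁)).toEquiv, inf_comm,
      h.vinter, h.card_v₁] at this
    rw [← Subgroup.inf_subgroupOf_right V₂ V₁, inf_comm]
    omega
  have heq : MulAction.orbit V₁ x = {x | Inc P₁ P₂ x (pt0 P₂)} \ {pt0 P₁} := by
    refine Set.eq_of_subset_of_ncard_le hsub (le_of_eq ?_) (Set.toFinite _)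
    rw [h.ncard_base_erase, ← MulAction.index_stabilizer, hst, hidx]
  have : x' ∈ MulAction.orbit V₁ x := by rw [heq]; exact ⟨hx', hx1'⟩
  obtain ⟨v, hv⟩ := this
  exact ⟨v, v.2, hv⟩

theorem smul_line (g : G) (y : G ⧸ P₂) :
    g • {x | Inc P₁ P₂ x y} = {x | Inc P₁ P₂ x (g • y)} := by
  ext x
  rw [Set.mem_smul_set_iff_inv_smul_mem]
  show Inc P₁ P₂ (g⁻¹ • x) y ↔ Inc P₁ P₂ x (g • y)
  rw [← inc_smul_iff g, smul_inv_smul]

theorem core_line {x : G ⧸ P₁} {y : G ⧸ P₂} (hy : Inc P₁ P₂ (pt0 P₁) y) (hy0 : y ≠ pt0 P₂)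
    (hx1 : x ≠ pt0 P₁) (hx0 : Inc P₁ P₂ x (pt0 P₂)) (hxy : Inc P₁ P₂ x y) : False := by
  set X0 := {x | Inc P₁ P₂ x (pt0 P₂)} with hX0
  have sub : ∀ x', Inc P₁ P₂ x' (pt0 P₂) → Inc P₁ P₂ x' y := by
    intro x' hx'
    by_cases e : x' = pt0 P₁
    · rw [e]; exact hy
    obtain ⟨v, hv, rfl⟩ := h.trans_line hx0 hx1 hx' e
    rw [← h.fix_pencil_zero hv hy]
    exact hxy.smul v
  have all : ∀ y', Inc P₁ P₂ (pt0 P₁) y' → X0 = {x | Inc P₁ P₂ x y'} := by
    intro y' hy'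
    refine Set.eq_of_subset_of_ncard_le (fun x' hx' => ?_) ?_ (Set.toFinite _)
    · by_cases e : y' = pt0 P₂
      · rw [e]; exact hx'
      obtain ⟨v, hv, rfl⟩ := h.symm.trans_line (inc_symm.2 hy) hy0 (inc_symm.2 hy') e
      show Inc P₁ P₂ x' (v • y)
      rw [← h.fix_base hv hx']
      exact (sub x' hx').smul v
    · rw [hX0, h.ncard_line, h.ncard_line]
  set H := MulAction.stabilizer G X0 with hH
  have hP1 : P₁ ≤ H := fun g hg => by
    rw [hH, MulAction.mem_stabilizer_iff]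
    show g • {x | Inc P₁ P₂ x (pt0 P₂)} = _
    rw [h.smul_line]
    refine (all _ ?_).symm
    have e : g • pt0 P₁ = pt0 P₁ := smul_coe_one_eq_iff.2 hg
    rw [← e]; exact h.inc_zero.smul g
  have hP2 : P₂ ≤ H := fun g hg => by
    rw [hH, MulAction.mem_stabilizer_iff]
    show g • {x | Inc P₁ P₂ x (pt0 P₂)} = _
    rw [h.smul_line, show g • pt0 P₂ = pt0 P₂ from smul_coe_one_eq_iff.2 hg]
  have horb : MulAction.orbit H (pt0 P₁) = X0 := by
    ext z
    constructor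
    · rintro ⟨g, rfl⟩
      have e : (g : G) • X0 = X0 := g.2
      rw [← e]
      exact Set.smul_mem_smul_set (show pt0 P₁ ∈ X0 from h.inc_zero)
    · intro hz
      obtain ⟨b, hb, rfl⟩ := inc_base_iff.1 hz
      exact ⟨⟨b, hP2 hb⟩, smul_pt0 b⟩
  have hst : MulAction.stabilizer H (pt0 P₁) = P₁.subgroupOf H := by
    ext g
    rw [MulAction.mem_stabilizer_iff, Subgroup.mem_subgroupOf]
    exact smul_coe_one_eq_iff
  have hi : (P₁.subgroupOf H).index = 5 := by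
    rw [← hst, MulAction.index_stabilizer, horb]
    exact h.ncard_base
  have hc := (P₁.subgroupOf H).card_mul_index
  rw [hi, Nat.card_congr (Subgroup.subgroupOfEquivOfLe hP1).toEquiv, h.card_p₁] at hc
  have hd := Subgroup.card_subgroup_dvd_card H
  rw [h.card_G, ← hc] at hd
  norm_num at hd

theorem line_unique {x x' : G ⧸ P₁} {y y' : G ⧸ P₂} (hne : x ≠ x') (h1 : Inc P₁ P₂ x y)
    (h2 : Inc P₁ P₂ x' y) (h3 : Inc P₁ P₂ x y') (h4 : Inc P₁ P₂ x' y') : y = y' := by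
  obtain ⟨g, rfl, rfl⟩ := h1
  by_contra hy
  have h2' := h2.smul g⁻¹
  have h3' := h3.smul g⁻¹
  have h4' := h4.smul g⁻¹
  rw [inv_smul_coe] at h2' h3'
  refine h.core_line h3' (fun e => hy ?_) (fun e => hne ?_) h2' h4'
  · have := congrArg (g • ·) e
    simp only [smul_inv_smul] at this
    rw [smul_pt0] at this
    exact this.symm
  · have := congrArg (g • ·) e
    simp only [smul_inv_smul] at this
    rw [smul_pt0] at this
    exact this.symm

theorem ncard_pencil (x : G ⧸ P₁) : {y | Inc P₁ P₂ x y}.ncard = 5 := by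
  rw [← h.symm.ncard_line x]
  exact congrArg _ (Set.ext fun y => inc_symm.symm)

theorem join_zero {x : G ⧸ P₁} (hx : x ≠ pt0 P₁) :
    ∃ y, Inc P₁ P₂ (pt0 P₁) y ∧ Inc P₁ P₂ x y := by
  classical
  letI : Fintype (G ⧸ P₁) := Fintype.ofFinite _
  letI : Fintype (G ⧸ P₂) := Fintype.ofFinite _
  let L : Finset (G ⧸ P₂) := Finset.univ.filter fun y => Inc P₁ P₂ (pt0 P₁) y
  let X : G ⧸ P₂ → Finset (G ⧸ P₁) := fun y => (Finset.univ.filter fun z => Inc P₁ P₂ z y).erase (pt0 P₁)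
  have hL : L.card = 5 := by
    rw [← h.ncard_pencil (pt0 P₁), ← Set.ncard_coe_finset]
    congr 1
    ext y; simp [L]
  have hX : ∀ y ∈ L, (X y).card = 4 := by
    intro y hy
    have e : (Finset.univ.filter fun z => Inc P₁ P₂ z y).card = 5 := by
      rw [← h.ncard_line y, ← Set.ncard_coe_finset]
      congr 1
      ext z; simp
    show Finset.card (Finset.erase _ _) = 4
    rw [Finset.card_erase_of_mem (by simpa [L] using hy), e]
  have hdis : (L : Set (G ⧸ P₂)).PairwiseDisjoint X := by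
    intro y hy y' hy' hne
    simp only [L, Finset.coe_filter, Finset.mem_univ, true_and, Set.mem_setOf_eq] at hy hy'
    rw [Function.onFun, Finset.disjoint_left]
    intro z hz hz'
    simp only [X, Finset.mem_erase, Finset.mem_filter, Finset.mem_univ, true_and] at hz hz'
    exact hne (h.line_unique hz.1 hz.2 hy hz'.2 hy')
  have hall : L.biUnion X = Finset.univ.erase (pt0 P₁) := by
    refine Finset.eq_of_subset_of_card_le (fun z hz => ?_) ?_
    · obtain ⟨y, -, hz⟩ := Finset.mem_biUnion.1 hz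
      exact Finset.mem_erase.2 ⟨(Finset.mem_erase.1 hz).1, Finset.mem_univ _⟩
    · rw [Finset.card_biUnion hdis, Finset.sum_congr rfl hX, Finset.sum_const, hL,
        Finset.card_erase_of_mem (Finset.mem_univ _), Finset.card_univ, ← Nat.card_eq_fintype_card,
        h.card_points, smul_eq_mul]
  have : x ∈ L.biUnion X := by rw [hall]; exact Finset.mem_erase.2 ⟨hx, Finset.mem_univ _⟩
  obtain ⟨y, hy, hxy⟩ := Finset.mem_biUnion.1 this
  simp only [L, Finset.mem_filter, Finset.mem_univ, true_and] at hy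
  simp only [X, Finset.mem_erase, Finset.mem_filter, Finset.mem_univ, true_and] at hxy
  exact ⟨y, hy, hxy.2⟩

theorem join {x x' : G ⧸ P₁} (hne : x ≠ x') : ∃ y, Inc P₁ P₂ x y ∧ Inc P₁ P₂ x' y := by
  induction x using QuotientGroup.induction_on with
  | H g =>
    obtain ⟨y, h1, h2⟩ := h.join_zero (x := g⁻¹ • x') (fun e => hne (by
      have := congrArg (g • ·) e
      simp only [smul_inv_smul] at this
      rw [smul_pt0] at this
      exact this.symm))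
    refine ⟨g • y, ?_, ?_⟩
    · rw [← smul_pt0 g]; exact h1.smul g
    · have := h2.smul g
      rwa [smul_inv_smul] at this

theorem meet {y y' : G ⧸ P₂} (hne : y ≠ y') : ∃ x, Inc P₁ P₂ x y ∧ Inc P₁ P₂ x y' := by
  obtain ⟨x, h1, h2⟩ := h.symm.join hne
  exact ⟨x, inc_symm.1 h1, inc_symm.1 h2⟩

theorem exists_meet_base (y : G ⧸ P₂) : ∃ s, Inc P₁ P₂ s (pt0 P₂) ∧ Inc P₁ P₂ s y := by
  by_cases e : y = pt0 P₂
  · exact ⟨pt0 P₁, h.inc_zero, e ▸ h.inc_zero⟩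
  · obtain ⟨s, h1, h2⟩ := h.meet e
    exact ⟨s, h2, h1⟩

theorem smul_base {v : G} (hv : v ∈ V₂) : v • pt0 P₂ = pt0 P₂ := smul_coe_one_eq_iff.2 (h.le₂₂ hv)

theorem smul_off {v : G} (hv : v ∈ V₂) {q : G ⧸ P₁} (hq : ¬ Inc P₁ P₂ q (pt0 P₂)) :
    ¬ Inc P₁ P₂ (v • q) (pt0 P₂) := fun e => hq (by
  rwa [← h.smul_base hv, inc_smul_iff] at e)

theorem fix_pencil {v : G} (hv : v ∈ V₂) {s : G ⧸ P₁} {y : G ⧸ P₂} (hs : Inc P₁ P₂ s (pt0 P₂))
    (hy : Inc P₁ P₂ s y) (hy0 : y ≠ pt0 P₂) (hvy : v • y = y) :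
    ∀ y', Inc P₁ P₂ s y' → v • y' = y' := by
  intro y' hy'
  obtain ⟨b, hb, rfl⟩ := inc_base_iff.1 hs
  have hv' : b⁻¹ * v * b ∈ V₂ := by simpa using h.norm₂ b⁻¹ (P₂.inv_mem hb) v hv
  have e0 : b⁻¹ • pt0 P₂ = pt0 P₂ := smul_coe_one_eq_iff.2 (P₂.inv_mem hb)
  have h1 := hy.smul b⁻¹
  have h1' := hy'.smul b⁻¹
  rw [inv_smul_coe] at h1 h1'
  obtain ⟨a, ha, hay⟩ := inc_base_iff.1 (inc_symm.2 h1)
  have ha2 : a ∉ P₂ := fun ha2 => hy0 (by
    have e1 : b⁻¹ • y = pt0 P₂ := by rw [← hay]; exact coe_eq_one_iff.2 ha2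
    have := congrArg (b • ·) e1
    simp only [smul_inv_smul] at this
    rw [this]; exact smul_coe_one_eq_iff.2 hb)
  have hconj : (b⁻¹ * v * b) • (a : G ⧸ P₂) = (a : G ⧸ P₂) := by
    rw [hay, mul_smul, mul_smul, smul_inv_smul, hvy]
  have hV1 : b⁻¹ * v * b ∈ V₁ := h.symm.reg ha ha2 hv' (smul_coe_eq_iff.1 hconj)
  have := h.fix_pencil_zero hV1 h1'
  rw [mul_smul, mul_smul, smul_inv_smul, smul_left_cancel_iff] at this
  exact this

theorem stab_line_iff {v : G} (hv : v ∈ V₂) {q s : G ⧸ P₁} {y : G ⧸ P₂}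
    (hq : ¬ Inc P₁ P₂ q (pt0 P₂)) (hs : Inc P₁ P₂ s (pt0 P₂)) (hqy : Inc P₁ P₂ q y)
    (hsy : Inc P₁ P₂ s y) : v • y = y ↔ Inc P₁ P₂ (v • q) y := by
  refine ⟨fun e => by rw [← e]; exact hqy.smul v, fun e => ?_⟩
  have h1 := hsy.smul v
  rw [h.fix_base hv hs] at h1
  refine h.line_unique (fun he => h.smul_off hv hq ?_) (hqy.smul v) h1 e hsy
  rw [he]; exact hs

theorem exists_second : ∃ s, Inc P₁ P₂ s (pt0 P₂) ∧ s ≠ pt0 P₁ := by
  obtain ⟨s, hs, hne⟩ := Set.nonempty_of_ncard_ne_zero (s := {x | Inc P₁ P₂ x (pt0 P₂)} \ {pt0 P₁})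
    (by rw [h.ncard_base_erase]; norm_num)
  exact ⟨s, hs, hne⟩

variable [IsSimpleGroup G]

theorem faithful {g : G} (hg : ∀ x : G ⧸ P₁, g • x = x) : g = 1 := by
  have hker : g ∈ (MulAction.toPermHom G (G ⧸ P₁)).ker := by
    rw [MonoidHom.mem_ker]
    ext x
    simpa using hg x
  rcases IsSimpleGroup.eq_bot_or_eq_top_of_normal (MulAction.toPermHom G (G ⧸ P₁)).ker inferInstance
    with e | e
  · rw [e, Subgroup.mem_bot] at hker
    exact hker
  · exfalso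
    have hsub : ∀ a : G, a ∈ P₁ := by
      intro a
      have ha : a ∈ (MulAction.toPermHom G (G ⧸ P₁)).ker := by rw [e]; exact Subgroup.mem_top _
      rw [MonoidHom.mem_ker] at ha
      have := congrArg (fun σ : Equiv.Perm (G ⧸ P₁) => σ (pt0 P₁)) ha
      exact smul_coe_one_eq_iff.1 (by simpa using this)
    have e1 : P₁ = ⊤ := eq_top_iff.2 fun a _ => hsub a
    have e2 := h.index_eq
    rw [e1, Subgroup.index_top] at e2
    norm_num at e2

theorem semiregular {v : G} (hv : v ∈ V₂) {q : G ⧸ P₁} (hq : ¬ Inc P₁ P₂ q (pt0 P₂))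
    (hvq : v • q = q) : v = 1 := by
  have hpen : ∀ s, Inc P₁ P₂ s (pt0 P₂) → ∀ y, Inc P₁ P₂ s y → v • y = y := by
    intro s hs y hy
    obtain ⟨y₀, h1, h2⟩ := h.join (x := q) (x' := s) (fun e => hq (e ▸ hs))
    exact h.fix_pencil hv hs h2 (fun e => hq (e ▸ h1))
      ((h.stab_line_iff hv hq hs h1 h2).2 (by rwa [hvq])) y hy
  apply h.faithful
  intro r
  by_cases hr : Inc P₁ P₂ r (pt0 P₂)
  · exact h.fix_base hv hr
  obtain ⟨s, hs, hsne⟩ := h.exists_second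
  obtain ⟨y₀, a1, a2⟩ := h.join (x := r) (x' := pt0 P₁) (fun e => hr (e ▸ h.inc_zero))
  obtain ⟨y₁, b1, b2⟩ := h.join (x := r) (x' := s) (fun e => hr (e ▸ hs))
  by_contra hne
  have c1 : Inc P₁ P₂ (v • r) y₀ := by
    rw [← hpen _ h.inc_zero y₀ a2]; exact a1.smul v
  have c2 : Inc P₁ P₂ (v • r) y₁ := by
    rw [← hpen s hs y₁ b2]; exact b1.smul v
  have hy : y₀ = y₁ := h.line_unique hne c1 a1 c2 b1
  subst hy
  exact hr (h.line_unique hsne b2 a2 hs h.inc_zero ▸ a1)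

theorem ncard_off : {x | ¬ Inc P₁ P₂ x (pt0 P₂)}.ncard = 16 := by
  have := Set.ncard_add_ncard_compl {x | Inc P₁ P₂ x (pt0 P₂)}
  rw [h.ncard_line, h.card_points] at this
  show ({x | Inc P₁ P₂ x (pt0 P₂)}ᶜ).ncard = 16
  omega

theorem regular {q r : G ⧸ P₁} (hq : ¬ Inc P₁ P₂ q (pt0 P₂)) (hr : ¬ Inc P₁ P₂ r (pt0 P₂)) :
    ∃ v ∈ V₂, v • q = r := by
  have heq : (fun v : G => v • q) '' (V₂ : Set G) = {x | ¬ Inc P₁ P₂ x (pt0 P₂)} := by
    refine Set.eq_of_subset_of_ncard_le ?_ (le_of_eq ?_) (Set.toFinite _)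
    · rintro _ ⟨v, hv, rfl⟩
      exact h.smul_off hv hq
    · rw [h.ncard_off, Set.InjOn.ncard_image ?_]
      · exact h.card_v₂.symm.trans (Nat.card_coe_set_eq _)
      · intro u hu w hw e
        have := h.semiregular (V₂.mul_mem (V₂.inv_mem hw) hu) hq (by
          rw [mul_smul, show u • q = w • q from e, inv_smul_smul])
        exact (inv_mul_eq_one.1 this).symm
  have : r ∈ (fun v : G => v • q) '' (V₂ : Set G) := by rw [heq]; exact hr
  exact this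

theorem card_stab {q s : G ⧸ P₁} {y : G ⧸ P₂} (hq : ¬ Inc P₁ P₂ q (pt0 P₂))
    (hs : Inc P₁ P₂ s (pt0 P₂)) (hqy : Inc P₁ P₂ q y) (hsy : Inc P₁ P₂ s y) :
    Nat.card (V₂ ⊓ MulAction.stabilizer G y : Subgroup G) = 4 := by
  have heq : (fun v : G => v • q) '' ((V₂ ⊓ MulAction.stabilizer G y : Subgroup G) : Set G) =
      {x | Inc P₁ P₂ x y} \ {s} := by
    ext r
    constructor
    · rintro ⟨v, ⟨hv, hvy⟩, rfl⟩
      exact ⟨(h.stab_line_iff hv hq hs hqy hsy).1 hvy, fun e => h.smul_off hv hq (by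
        rw [show v • q = s from e]; exact hs)⟩
    · rintro ⟨hr, hrs⟩
      have hr0 : ¬ Inc P₁ P₂ r (pt0 P₂) := fun e =>
        hq ((h.line_unique hrs hr hsy e hs) ▸ hqy)
      obtain ⟨v, hv, rfl⟩ := h.regular hq hr0
      exact ⟨v, ⟨hv, (h.stab_line_iff hv hq hs hqy hsy).2 hr⟩, rfl⟩
  have := congrArg Set.ncard heq
  rw [Set.ncard_sdiff_singleton_of_mem (show s ∈ {x | Inc P₁ P₂ x y} from hsy), h.ncard_line,
    Set.InjOn.ncard_image ?_] at this
  · exact (Nat.card_coe_set_eq _).trans this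
  · intro u hu w hw e
    have := h.semiregular (V₂.mul_mem (V₂.inv_mem hw.1) hu.1) hq (by
      rw [mul_smul, show u • q = w • q from e, inv_smul_smul])
    exact (inv_mul_eq_one.1 this).symm

end Parab

end CfsgLib.PSL34
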