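import Mathlib

/-!
# Five pairwise disjoint subgroups of order 4 in an elementary abelian group of order 16

Up to a change of coordinates there is only one such configuration.
-/

set_option autoImplicit false
set_option linter.unusedSectionVars false

namespace CfsgLib.PSL34

/-- `F₂²`. -/
abbrev Z2 := ZMod 2 × ZMod 2

/-- `F₂⁴`. -/
abbrev W4 := Z2 × Z2

/-- The five standard planes through the origin of `F₂⁴`. -/
def stdLine (i : Fin 5) (z : Z2) : W4 :=
  match i with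
  | 0 => (z, 0)
  | 1 => (0, z)
  | 2 => (z, z)
  | 3 => (z, (z.2, z.1 + z.2))
  | 4 => (z, (z.1 + z.2, z.1))

/-- Membership in the standard planes. -/
def InStd (i : Fin 5) (w : W4) : Prop := ∃ z : Z2, stdLine i z = w

instance (i : Fin 5) (w : W4) : Decidable (InStd i w) := inferInstanceAs (Decidable (∃ _, _))

theorem stdLine_decomp : ∀ (i : Fin 5) (z : Z2),
    stdLine i z = (if z.1 = 1 then stdLine i (1, 0) else 0) + (if z.2 = 1 then stdLine i (0, 1) else 0) := by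
  decide

theorem card_inStd : ∀ i : Fin 5, (Finset.univ.filter fun w => InStd i w).card = 4 := by decide

section

variable {G : Type*} [Group G] {V : Subgroup G}

/-- `x ↦ a ^ x` on `ZMod 2`. -/
def pw (a : G) (x : ZMod 2) : G := if x = 1 then a else 1

theorem pw_add {a : G} (ha : a * a = 1) : ∀ x y : ZMod 2, pw a (x + y) = pw a x * pw a y := by
  intro x y
  have d2 : ∀ z : ZMod 2, z = 0 ∨ z = 1 := by decide
  rcases d2 x with rfl | rfl <;> rcases d2 y with rfl | rfl <;>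
    simp [pw, ha, show (1 + 1 : ZMod 2) = 0 from rfl]

theorem pw_mem {a : G} (ha : a ∈ V) (x : ZMod 2) : pw a x ∈ V := by
  unfold pw; split
  · exact ha
  · exact V.one_mem

theorem commute_of_exp {x y : G} (hV : ∀ v ∈ V, v * v = 1) (hx : x ∈ V) (hy : y ∈ V) : x * y = y * x := by
  have h1 := hV _ (V.mul_mem hx hy)
  have hxi : x⁻¹ = x := inv_eq_of_mul_eq_one_right (hV x hx)
  have hyi : y⁻¹ = y := inv_eq_of_mul_eq_one_right (hV y hy)
  calc x * y = (x * y)⁻¹ := (inv_eq_of_mul_eq_one_right h1).symm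
    _ = y * x := by rw [mul_inv_rev, hxi, hyi]

variable [Finite G] (hV : ∀ v ∈ V, v * v = 1) (hcard : Nat.card V = 16) (Z : Fin 5 → Subgroup G)
  (hZ : ∀ i, Z i ≤ V) (hZ4 : ∀ i, Nat.card (Z i) = 4)
  (hdis : ∀ i j, i ≠ j → ∀ v, v ∈ Z i → v ∈ Z j → v = 1)

theorem exists_gens {U : Subgroup G} (h4 : Nat.card U = 4) :
    ∃ a ∈ U, ∃ b ∈ U, a ≠ 1 ∧ b ≠ 1 ∧ a ≠ b := by
  have h : (1 : ℕ) < ((U : Set G) \ {1}).ncard := by
    rw [Set.ncard_sdiff_singleton_of_mem (show (1 : G) ∈ (U : Set G) from U.one_mem),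
      ← Nat.card_coe_set_eq, SetLike.coe_sort_coe, h4]
    norm_num
  obtain ⟨a, b, ha, hb, hne⟩ := (Set.one_lt_ncard_iff (Set.toFinite _)).1 h
  exact ⟨a, ha.1, b, hb.1, ha.2, hb.2, hne⟩

include hV in
theorem eq_of_gens {U : Subgroup G} (h4 : Nat.card U = 4) (hUV : U ≤ V) {a b : G} (ha : a ∈ U) (hb : b ∈ U)
    (ha1 : a ≠ 1) (hb1 : b ≠ 1) (hab : a ≠ b) {x : G} (hx : x ∈ U) :
    x = 1 ∨ x = a ∨ x = b ∨ x = a * b := by
  classical
  have hab1 : a * b ≠ 1 := fun e => hab (by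
    have hbi : b⁻¹ = b := inv_eq_of_mul_eq_one_right (hV b (hUV hb))
    rw [mul_eq_one_iff_eq_inv] at e
    rw [e, hbi])
  have hset : (({1, a, b, a * b} : Finset G) : Set G) = (U : Set G) := by
    refine Set.eq_of_subset_of_ncard_le (fun z hz => ?_) ?_ (Set.toFinite _)
    · simp only [Finset.coe_insert, Finset.coe_singleton, Set.mem_insert_iff, Set.mem_singleton_iff] at hz
      rcases hz with rfl | rfl | rfl | rfl
      exacts [U.one_mem, ha, hb, U.mul_mem ha hb]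
    · rw [Set.ncard_coe_finset, ← Nat.card_coe_set_eq, SetLike.coe_sort_coe, h4,
        Finset.card_insert_of_notMem (by simp [Ne.symm ha1, Ne.symm hb1, Ne.symm hab1]),
        Finset.card_insert_of_notMem (by simp [hab, hb1]),
        Finset.card_insert_of_notMem (by simp [ha1]), Finset.card_singleton]
  have : x ∈ (({1, a, b, a * b} : Finset G) : Set G) := by rw [hset]; exact hx
  simpa using this

include hV hcard hZ hZ4 hdis

theorem exists_split {x : G} (hx : x ∈ V) : ∃ z0 ∈ Z 0, ∃ z1 ∈ Z 1, z0 * z1 = x := by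
  have heq : (fun p : G × G => p.1 * p.2) '' ((Z 0 : Set G) ×ˢ (Z 1 : Set G)) = (V : Set G) := by
    refine Set.eq_of_subset_of_ncard_le ?_ ?_ (Set.toFinite _)
    · rintro _ ⟨p, ⟨h0, h1⟩, rfl⟩
      exact V.mul_mem (hZ 0 h0) (hZ 1 h1)
    · rw [Set.InjOn.ncard_image ?_, Set.ncard_prod, ← Nat.card_coe_set_eq, ← Nat.card_coe_set_eq,
        ← Nat.card_coe_set_eq, SetLike.coe_sort_coe, SetLike.coe_sort_coe, SetLike.coe_sort_coe, hZ4, hZ4, hcard]
      rintro ⟨u, w⟩ ⟨hu, hw⟩ ⟨u', w'⟩ ⟨hu', hw'⟩ e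
      have e' : u * w = u' * w' := e
      have h1 : u'⁻¹ * u = w' * w⁻¹ := by
        rw [inv_mul_eq_iff_eq_mul, eq_comm, ← mul_assoc, ← e', mul_inv_cancel_right]
      have h2 := hdis 0 1 (by decide) _ ((Z 0).mul_mem ((Z 0).inv_mem hu') hu)
        (by rw [h1]; exact (Z 1).mul_mem hw' ((Z 1).inv_mem hw))
      have h3 : u' = u := inv_mul_eq_one.1 h2
      subst h3
      exact Prod.ext rfl (mul_left_cancel e')
  have : x ∈ (fun p : G × G => p.1 * p.2) '' ((Z 0 : Set G) ×ˢ (Z 1 : Set G)) := by rw [heq]; exact hx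
  obtain ⟨p, ⟨h0, h1⟩, e⟩ := this
  exact ⟨p.1, h0, p.2, h1, e⟩

theorem exists_graph {k : Fin 5} (hk0 : k ≠ 0) (hk1 : k ≠ 1) {z : G} (hz : z ∈ Z 0) :
    ∃ z1 ∈ Z 1, z * z1 ∈ Z k := by
  have key : ∀ u : Z k, ∃ z0 : Z 0, ∃ z1 ∈ Z 1, (z0 : G) * z1 = u := fun u => by
    obtain ⟨a, ha, b, hb, e⟩ := exists_split hV hcard Z hZ hZ4 hdis (hZ k u.2)
    exact ⟨⟨a, ha⟩, b, hb, e⟩
  choose f g hg hfg using key
  have hinj : Function.Injective f := by
    intro u w e
    have hu := hfg u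
    have hw := hfg w
    rw [e] at hu
    have h1 : (u : G)⁻¹ * w = (g u)⁻¹ * g w := by rw [← hu, ← hw]; group
    have h2 := hdis k 1 hk1 _ ((Z k).mul_mem ((Z k).inv_mem u.2) w.2)
      (by rw [h1]; exact (Z 1).mul_mem ((Z 1).inv_mem (hg u)) (hg w))
    exact Subtype.ext (inv_mul_eq_one.1 h2)
  have hbij : Function.Bijective f := by
    rw [Nat.bijective_iff_injective_and_card]
    exact ⟨hinj, by rw [hZ4, hZ4]⟩
  obtain ⟨u, hu⟩ := hbij.2 ⟨z, hz⟩
  refine ⟨g u, hg u, ?_⟩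
  have := hfg u
  rw [hu] at this
  rw [this]; exact u.2

/-- Every spread of five subgroups is standard in suitable coordinates. -/
theorem exists_coord : ∃ (e : W4 → G) (π : Equiv.Perm (Fin 5)),
    (∀ u w, e (u + w) = e u * e w) ∧ Function.Injective e ∧ (∀ w, e w ∈ V) ∧
      (∀ v ∈ V, ∃ w, e w = v) ∧ ∀ i w, e w ∈ Z (π i) ↔ InStd i w := by
  classical
  obtain ⟨a, ha, b, hb, ha1, hb1, hab⟩ := exists_gens (hZ4 0)
  have haV := hZ 0 ha
  have hbV := hZ 0 hb
  obtain ⟨A, hA, haA⟩ := exists_graph hV hcard Z hZ hZ4 hdis (k := 2) (by decide) (by decide) ha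
  obtain ⟨B, hB, hbB⟩ := exists_graph hV hcard Z hZ hZ4 hdis (k := 2) (by decide) (by decide) hb
  have hAV := hZ 1 hA
  have hBV := hZ 1 hB
  have hsq : ∀ x ∈ V, x⁻¹ = x := fun x hx => inv_eq_of_mul_eq_one_right (hV x hx)
  have hcomm : ∀ x ∈ V, ∀ y ∈ V, x * y = y * x := fun x hx y hy => commute_of_exp hV hx hy
  have hab1 : a * b ≠ 1 := fun e => hab (by rw [mul_eq_one_iff_eq_inv.1 e, hsq b hbV])
  have hswap : ∀ x ∈ V, ∀ y ∈ V, ∀ u ∈ V, ∀ w ∈ V, (x * y) * (u * w) = (x * u) * (y * w) := by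
    intro x hx y hy u hu w hw
    rw [mul_assoc, ← mul_assoc y, hcomm y hy u hu, mul_assoc u, ← mul_assoc]
  have hA1 : A ≠ 1 := fun e => ha1 (hdis 2 0 (by decide) a (by simpa [e] using haA) ha)
  have hB1 : B ≠ 1 := fun e => hb1 (hdis 2 0 (by decide) b (by simpa [e] using hbB) hb)
  have hAB : A ≠ B := fun e => hab1 (hdis 2 0 (by decide) (a * b) (by
    have := (Z 2).mul_mem haA hbB
    rw [hswap a haV A hAV b hbV B hBV, e, hV B hBV, mul_one] at this
    exact this) ((Z 0).mul_mem ha hb))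
  have hgen1 : ∀ {x : G}, x ∈ Z 1 → x = 1 ∨ x = A ∨ x = B ∨ x = A * B := fun hx =>
    eq_of_gens hV (hZ4 1) (hZ 1) hA hB hA1 hB1 hAB hx
  have hsame : ∀ {i j : Fin 5}, i ≠ j → ∀ {x y : G}, x * y ∈ Z i → x * y ∈ Z j → x ∈ Z 0 → y ∈ Z 1 → x ≠ 1 → False :=
    fun hij x y h1 h2 hx hy hx1 => hx1 (by
      have e := hdis _ _ hij _ h1 h2
      refine hdis 0 1 (by decide) x hx ?_
      rw [mul_eq_one_iff_eq_inv.1 e]
      exact (Z 1).inv_mem hy)
  have hX : ∀ k : Fin 5, k = 3 ∨ k = 4 → a * B ∈ Z k ∨ a * (A * B) ∈ Z k := by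
    intro k hk
    have hk' : k ≠ 0 ∧ k ≠ 1 ∧ k ≠ 2 := by rcases hk with rfl | rfl <;> decide
    obtain ⟨X, hXm, haX⟩ := exists_graph hV hcard Z hZ hZ4 hdis hk'.1 hk'.2.1 ha
    rcases hgen1 hXm with e | e | e | e <;> rw [e] at haX
    · exact (hsame hk'.1 haX (by simpa using ha) ha (Z 1).one_mem ha1).elim
    · exact (hsame hk'.2.2 haX haA ha hA ha1).elim
    · exact Or.inl haX
    · exact Or.inr haX
  obtain ⟨π, hπ0, hπ1, hπ2, h3, h4⟩ : ∃ π : Equiv.Perm (Fin 5), π 0 = 0 ∧ π 1 = 1 ∧ π 2 = 2 ∧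
      a * B ∈ Z (π 3) ∧ a * (A * B) ∈ Z (π 4) := by
    rcases hX 3 (Or.inl rfl) with h3 | h3
    · refine ⟨Equiv.refl _, rfl, rfl, rfl, h3, ?_⟩
      rcases hX 4 (Or.inr rfl) with h4 | h4
      · exact (hsame (by decide : (3 : Fin 5) ≠ 4) h3 h4 ha hB ha1).elim
      · exact h4
    · refine ⟨Equiv.swap 3 4, by decide, by decide, by decide, ?_, by rw [Equiv.swap_apply_right]; exact h3⟩
      rw [Equiv.swap_apply_left]
      rcases hX 4 (Or.inr rfl) with h4 | h4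
      · exact h4
      · exact (hsame (by decide : (3 : Fin 5) ≠ 4) h3 h4 ha ((Z 1).mul_mem hA hB) ha1).elim
  have hne : ∀ {i j : Fin 5}, i ≠ j → π i ≠ π j := fun hij => π.injective.ne hij
  have h30 : π 3 ≠ 0 := hπ0 ▸ hne (by decide)
  have h31 : π 3 ≠ 1 := hπ1 ▸ hne (by decide)
  have h32 : π 3 ≠ 2 := hπ2 ▸ hne (by decide)
  have h40 : π 4 ≠ 0 := hπ0 ▸ hne (by decide)
  have h41 : π 4 ≠ 1 := hπ1 ▸ hne (by decide)
  have h42 : π 4 ≠ 2 := hπ2 ▸ hne (by decide)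
  have hb3 : b * (A * B) ∈ Z (π 3) := by
    obtain ⟨Y, hYm, hbY⟩ := exists_graph hV hcard Z hZ hZ4 hdis h30 h31 hb
    rcases hgen1 hYm with e | e | e | e <;> rw [e] at hbY
    · exact (hsame h30 hbY (by simpa using hb) hb (Z 1).one_mem hb1).elim
    · exfalso
      have e1 := (Z (π 3)).mul_mem h3 hbY
      rw [hswap a haV B hBV b hbV A hAV, hcomm B hBV A hAV] at e1
      have e2 := (Z 2).mul_mem haA hbB
      rw [hswap a haV A hAV b hbV B hBV] at e2
      exact hsame h32 e1 e2 ((Z 0).mul_mem ha hb) ((Z 1).mul_mem hA hB) hab1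
    · exact (hsame h32 hbY hbB hb hB hb1).elim
    · exact hbY
  have hb4 : b * A ∈ Z (π 4) := by
    obtain ⟨Y, hYm, hbY⟩ := exists_graph hV hcard Z hZ hZ4 hdis h40 h41 hb
    rcases hgen1 hYm with e | e | e | e <;> rw [e] at hbY
    · exact (hsame h40 hbY (by simpa using hb) hb (Z 1).one_mem hb1).elim
    · exact hbY
    · exact (hsame h42 hbY hbB hb hB hb1).elim
    · exfalso
      have e1 := (Z (π 4)).mul_mem h4 hbY
      rw [hswap a haV _ (V.mul_mem hAV hBV) b hbV _ (V.mul_mem hAV hBV), hV _ (V.mul_mem hAV hBV), mul_one] at e1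
      exact hab1 (hdis _ _ h40 _ e1 ((Z 0).mul_mem ha hb))
  let e0 : Z2 → G := fun z => pw a z.1 * pw b z.2
  let e1 : Z2 → G := fun z => pw A z.1 * pw B z.2
  have he0 : ∀ z, e0 z ∈ Z 0 := fun z => (Z 0).mul_mem (pw_mem ha _) (pw_mem hb _)
  have he1 : ∀ z, e1 z ∈ Z 1 := fun z => (Z 1).mul_mem (pw_mem hA _) (pw_mem hB _)
  let e : W4 → G := fun w => e0 w.1 * e1 w.2
  have hadd0 : ∀ u w, e0 (u + w) = e0 u * e0 w := fun u w => by
    show pw a (u.1 + w.1) * pw b (u.2 + w.2) = _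
    rw [pw_add (hV a haV), pw_add (hV b hbV),
      ← hswap _ (pw_mem haV _) _ (pw_mem hbV _) _ (pw_mem haV _) _ (pw_mem hbV _)]
  have hadd1 : ∀ u w, e1 (u + w) = e1 u * e1 w := fun u w => by
    show pw A (u.1 + w.1) * pw B (u.2 + w.2) = _
    rw [pw_add (hV A hAV), pw_add (hV B hBV),
      ← hswap _ (pw_mem hAV _) _ (pw_mem hBV _) _ (pw_mem hAV _) _ (pw_mem hBV _)]
  have hadd : ∀ u w, e (u + w) = e u * e w := fun u w => by
    show e0 (u.1 + w.1) * e1 (u.2 + w.2) = _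
    rw [hadd0, hadd1, ← hswap _ (hZ 0 (he0 _)) _ (hZ 1 (he1 _)) _ (hZ 0 (he0 _)) _ (hZ 1 (he1 _))]
  have hezero : e 0 = 1 := by simp [e, e0, e1, pw]
  have hker : ∀ w, e w = 1 → w = 0 := by
    intro w hw
    have h0 : e0 w.1 = 1 := hdis 0 1 (by decide) _ (he0 _) (by
      rw [mul_eq_one_iff_eq_inv.1 hw]; exact (Z 1).inv_mem (he1 _))
    have h1 : e1 w.2 = 1 := by simpa [e, h0] using hw
    have d2 : ∀ x : ZMod 2, x = 0 ∨ x = 1 := by decide
    have k0 : ∀ z : Z2, e0 z = 1 → z = 0 := by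
      rintro ⟨i, j⟩ hz
      have h10 : (0 : ZMod 2) ≠ 1 := by decide
      rcases d2 i with rfl | rfl <;> rcases d2 j with rfl | rfl <;>
        simp only [e0, pw, if_pos rfl, if_neg h10, if_true, one_mul, mul_one] at hz
      · rfl
      · exact absurd hz hb1
      · exact absurd hz ha1
      · exact absurd hz hab1
    have k1 : ∀ z : Z2, e1 z = 1 → z = 0 := by
      rintro ⟨i, j⟩ hz
      have h10 : (0 : ZMod 2) ≠ 1 := by decide
      rcases d2 i with rfl | rfl <;> rcases d2 j with rfl | rfl <;>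
        simp only [e1, pw, if_pos rfl, if_neg h10, if_true, one_mul, mul_one] at hz
      · rfl
      · exact absurd hz hB1
      · exact absurd hz hA1
      · exact absurd hz (fun h => hAB (by rw [mul_eq_one_iff_eq_inv.1 h, hsq B hBV]))
    exact Prod.ext (k0 _ h0) (k1 _ h1)
  have hinj : Function.Injective e := by
    intro u w huw
    have : e (u + w) = 1 := by
      rw [hadd, huw]; exact hV _ (V.mul_mem (hZ 0 (he0 _)) (hZ 1 (he1 _)))
    exact CharTwo.add_eq_zero.1 (hker _ this)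
  have hmem : ∀ w, e w ∈ V := fun w => V.mul_mem (hZ 0 (he0 _)) (hZ 1 (he1 _))
  have hsurj : ∀ v ∈ V, ∃ w, e w = v := by
    have hbij : Function.Bijective (fun w => (⟨e w, hmem w⟩ : V)) := by
      rw [Nat.bijective_iff_injective_and_card]
      refine ⟨fun u w huw => hinj (congrArg Subtype.val huw), ?_⟩
      rw [hcard, Nat.card_eq_fintype_card]
      rfl
    intro v hv
    obtain ⟨w, hw⟩ := hbij.2 ⟨v, hv⟩
    exact ⟨w, congrArg Subtype.val hw⟩
  have hbase : ∀ i : Fin 5, e (stdLine i (1, 0)) ∈ Z (π i) ∧ e (stdLine i (0, 1)) ∈ Z (π i) := by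
    intro i
    fin_cases i
    · simp [stdLine, e, e0, e1, pw, hπ0, ha, hb]
    · simp [stdLine, e, e0, e1, pw, hπ1, hA, hB]
    · simp [stdLine, e, e0, e1, pw, hπ2, haA, hbB]
    · simp [stdLine, e, e0, e1, pw, h3, hb3]
    · simp [stdLine, e, e0, e1, pw, h4, hb4, show (1 + 0 : ZMod 2) = 1 from rfl]
  have hfwd : ∀ i w, InStd i w → e w ∈ Z (π i) := by
    rintro i w ⟨z, rfl⟩
    rw [stdLine_decomp, hadd]
    refine (Z (π i)).mul_mem ?_ ?_
    · split
      · exact (hbase i).1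
      · rw [hezero]; exact Subgroup.one_mem _
    · split
      · exact (hbase i).2
      · rw [hezero]; exact Subgroup.one_mem _
  refine ⟨e, π, hadd, hinj, hmem, hsurj, fun i w => ⟨fun hw => ?_, hfwd i w⟩⟩
  have hset : {u | InStd i u} = {u | e u ∈ Z (π i)} := by
    refine Set.eq_of_subset_of_ncard_le (fun u hu => hfwd i u hu) ?_ (Set.toFinite _)
    have l1 : {u | InStd i u}.ncard = 4 := by
      rw [← card_inStd i, ← Set.ncard_coe_finset]; congr 1; ext; simp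
    have l2 : {u | e u ∈ Z (π i)}.ncard ≤ 4 := by
      rw [← Set.ncard_image_of_injective _ hinj, ← hZ4 (π i), ← SetLike.coe_sort_coe, Nat.card_coe_set_eq]
      exact Set.ncard_le_ncard (by rintro _ ⟨u, hu, rfl⟩; exact hu) (Set.toFinite _)
    omega
  have : w ∈ {u | InStd i u} := by rw [hset]; exact hw
  exact this

end

end CfsgLib.PSL34
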