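import Cfsg.Agent.PSL34.Plane
import Cfsg.Agent.PSL34.Spread

/-!
# Uniqueness of a simple group of order 20160 with two parabolic subgroups of shape `2⁴:A₅`

Coordinates on the plane, the elations, and the isomorphism between two such groups.
-/

set_option autoImplicit false
set_option linter.style.haveILetI false
set_option linter.unusedSectionVars false

namespace CfsgLib.PSL34

open scoped Pointwise

universe u v

/-- Points of the standard plane. -/
abbrev StdPt := W4 ⊕ Fin 5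

/-- Lines of the standard plane. -/
abbrev StdLn := Option (Fin 5 × W4)

/-- Incidence of the standard plane. -/
def OnLine : StdPt → StdLn → Prop
  | Sum.inl _, none => False
  | Sum.inr _, none => True
  | Sum.inl u, some l => InStd l.1 (u + l.2)
  | Sum.inr j, some l => j = l.1

section

variable {G : Type u} [Group G] [Finite G] {P₁ P₂ V₁ V₂ : Subgroup G}

namespace Parab

variable (h : Parab P₁ P₂ V₁ V₂)
include h

theorem exists_off : ∃ q, ¬ Inc P₁ P₂ q (pt0 P₂) := by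
  by_contra hall
  push Not at hall
  have : {x | Inc P₁ P₂ x (pt0 P₂)} = Set.univ := Set.eq_univ_of_forall hall
  have h5 := h.ncard_line (pt0 P₂)
  rw [this, Set.ncard_univ, h.card_points] at h5
  norm_num at h5

theorem exists_off_on {y : G ⧸ P₂} (hy : y ≠ pt0 P₂) :
    ∃ q, Inc P₁ P₂ q y ∧ ¬ Inc P₁ P₂ q (pt0 P₂) := by
  obtain ⟨s, hs, hsy⟩ := h.exists_meet_base y
  obtain ⟨q, hq, hqs⟩ := Set.exists_ne_of_one_lt_ncard (s := {x | Inc P₁ P₂ x y})
    (by rw [h.ncard_line]; norm_num) s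
  exact ⟨q, hq, fun e => hy (h.line_unique hqs hq hsy e hs)⟩

variable [IsSimpleGroup G]

theorem exists_chart : ∃ ψ : StdPt ≃ G ⧸ P₁,
    (∀ y, ∃ L, ∀ p, Inc P₁ P₂ (ψ p) y ↔ OnLine p L) ∧
    (∀ L, ∃ y, ∀ p, Inc P₁ P₂ (ψ p) y ↔ OnLine p L) := by
  classical
  obtain ⟨q0, hq0⟩ := h.exists_off
  let S := {x // Inc P₁ P₂ x (pt0 P₂)}
  have hS : Nat.card S = 5 := (Nat.card_coe_set_eq {x | Inc P₁ P₂ x (pt0 P₂)}).trans (h.ncard_line _)
  let s : Fin 5 ≃ S := (Finite.equivFinOfCardEq hS).symm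
  have hline : ∀ i, ∃ y, Inc P₁ P₂ q0 y ∧ Inc P₁ P₂ (s i : G ⧸ P₁) y := fun i =>
    h.join (fun e => hq0 (by rw [e]; exact (s i).2))
  choose line hl1 hl2 using hline
  have hl0 : ∀ i, line i ≠ pt0 P₂ := fun i e => hq0 (e ▸ hl1 i)
  have hlne : ∀ i j, i ≠ j → line i ≠ line j := fun i j hij e => hl0 i
    (h.line_unique (fun e' => hij (s.injective (Subtype.ext e'))) (hl2 i) (e ▸ hl2 j) (s i).2 (s j).2)
  let Z : Fin 5 → Subgroup G := fun i => V₂ ⊓ MulAction.stabilizer G (line i)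
  obtain ⟨e, π, hadd, hinj, hmem, hsurj, hZ⟩ := exists_coord h.exp₂ h.card_v₂ Z (fun i => inf_le_left)
    (fun i => h.card_stab hq0 (s i).2 (hl1 i) (hl2 i)) (fun i j hij v hvi hvj => by
      refine h.semiregular hvi.1 hq0 ?_
      by_contra hne
      exact hlne i j hij (h.line_unique hne
        ((h.stab_line_iff hvi.1 hq0 (s i).2 (hl1 i) (hl2 i)).1 hvi.2) (hl1 i)
        ((h.stab_line_iff hvj.1 hq0 (s j).2 (hl1 j) (hl2 j)).1 hvj.2) (hl1 j)))
  let f : StdPt → G ⧸ P₁ := Sum.elim (fun w => e w • q0) (fun i => (s (π i) : G ⧸ P₁))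
  have hfinj : Function.Injective f := by
    rintro (a | a) (b | b) hab
    · have h1 := h.semiregular (V₂.mul_mem (V₂.inv_mem (hmem b)) (hmem a)) hq0 (by
        rw [mul_smul, show e a • q0 = e b • q0 from hab, inv_smul_smul])
      exact congrArg Sum.inl (hinj (inv_mul_eq_one.1 h1).symm)
    · exact (h.smul_off (hmem a) hq0 (by rw [show e a • q0 = _ from hab]; exact (s (π b)).2)).elim
    · exact (h.smul_off (hmem b) hq0 (by rw [← show _ = e b • q0 from hab]; exact (s (π a)).2)).elim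
    · exact congrArg Sum.inr (π.injective (s.injective (Subtype.ext hab)))
  have hfbij : Function.Bijective f := by
    rw [Nat.bijective_iff_injective_and_card]
    refine ⟨hfinj, ?_⟩
    rw [h.card_points, Nat.card_eq_fintype_card]
    rfl
  have key : ∀ i w p, Inc P₁ P₂ (f p) (e w • line (π i)) ↔ OnLine p (some (i, w)) := by
    intro i w p
    have hfix : e w • (s (π i) : G ⧸ P₁) = (s (π i) : G ⧸ P₁) := h.fix_base (hmem w) (s (π i)).2
    rcases p with u | j
    · show Inc P₁ P₂ (e u • q0) _ ↔ InStd i (u + w)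
      rw [← hZ i, ← inc_smul_iff (e w)⁻¹, inv_smul_smul, smul_smul]
      have hinv : (e w)⁻¹ = e w := inv_eq_of_mul_eq_one_right (h.exp₂ _ (hmem w))
      rw [hinv, add_comm u w, hadd]
      have hm : e w * e u ∈ V₂ := V₂.mul_mem (hmem w) (hmem u)
      rw [← h.stab_line_iff hm hq0 (s (π i)).2 (hl1 _) (hl2 _)]
      exact ⟨fun h' => ⟨hm, h'⟩, fun h' => h'.2⟩
    · show Inc P₁ P₂ (s (π j) : G ⧸ P₁) _ ↔ j = i
      constructor
      · intro hj
        by_contra hji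
        have h1 := (hl2 (π i)).smul (e w)
        rw [hfix] at h1
        have e1 : e w • line (π i) = pt0 P₂ := h.line_unique
          (fun e' => hji (π.injective (s.injective (Subtype.ext e')))) hj h1 (s (π j)).2 (s (π i)).2
        have := congrArg ((e w)⁻¹ • ·) e1
        simp only [inv_smul_smul] at this
        exact hl0 (π i) (this.trans (h.smul_base (V₂.inv_mem (hmem w))))
      · rintro rfl
        have h1 := (hl2 (π j)).smul (e w)
        rwa [hfix] at h1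
  have key0 : ∀ p, Inc P₁ P₂ (f p) (pt0 P₂) ↔ OnLine p none := by
    rintro (u | j)
    · exact iff_of_false (h.smul_off (hmem u) hq0) (fun h' => h')
    · exact iff_of_true (s (π j)).2 trivial
  refine ⟨Equiv.ofBijective f hfbij, fun y => ?_, ?_⟩
  · by_cases hy : y = pt0 P₂
    · exact ⟨none, fun p => hy ▸ key0 p⟩
    obtain ⟨t, ht, hty⟩ := h.exists_meet_base y
    obtain ⟨q, hqy, hq⟩ := h.exists_off_on hy
    obtain ⟨v, hv, rfl⟩ := h.regular hq0 hq
    obtain ⟨w, rfl⟩ := hsurj v hv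
    obtain ⟨k, hk⟩ := s.surjective ⟨t, ht⟩
    obtain ⟨i, rfl⟩ := π.surjective k
    have ht' : (s (π i) : G ⧸ P₁) = t := congrArg Subtype.val hk
    have hline : y = e w • line (π i) := by
      refine h.line_unique (fun e' => h.smul_off (hmem w) hq0 (by rw [e']; exact ht)) hqy hty
        ((hl1 _).smul _) ?_
      have h1 := (hl2 (π i)).smul (e w)
      rwa [ht', h.fix_base (hmem w) ht] at h1
    exact ⟨some (i, w), fun p => hline ▸ key i w p⟩
  · rintro (_ | ⟨i, w⟩)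
    · exact ⟨_, key0⟩
    · exact ⟨_, key i w⟩

/-- A line-preserving map fixing exactly the base line pointwise is induced by `V₂`. -/
theorem elation {σ : G ⧸ P₁ → G ⧸ P₁} (hinj : Function.Injective σ)
    (hline : ∀ y, ∃ y', ∀ x, Inc P₁ P₂ x y → Inc P₁ P₂ (σ x) y')
    (hfix : ∀ x, Inc P₁ P₂ x (pt0 P₂) → σ x = x)
    (hfree : ∀ x, ¬ Inc P₁ P₂ x (pt0 P₂) → σ x ≠ x) :
    ∃ v ∈ V₂, ∀ x, σ x = v • x := by
  have hoff : ∀ q, ¬ Inc P₁ P₂ q (pt0 P₂) → ¬ Inc P₁ P₂ (σ q) (pt0 P₂) := fun q hq e =>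
    hfree q hq (hinj (hfix _ e))
  have haxis : ∀ q, ¬ Inc P₁ P₂ q (pt0 P₂) → ∃ y s, Inc P₁ P₂ q y ∧ Inc P₁ P₂ (σ q) y ∧
      Inc P₁ P₂ s y ∧ Inc P₁ P₂ s (pt0 P₂) ∧ y ≠ pt0 P₂ ∧ ∀ x, Inc P₁ P₂ x y → Inc P₁ P₂ (σ x) y := by
    intro q hq
    obtain ⟨y, h1, h2⟩ := h.join (Ne.symm (hfree q hq))
    obtain ⟨s, hs, hsy⟩ := h.exists_meet_base y
    obtain ⟨y', hy'⟩ := hline y
    have hs' := hy' s hsy
    rw [hfix s hs] at hs'
    have he : y = y' := h.line_unique (fun e => hoff q hq (by rw [e]; exact hs)) h2 hsy (hy' q h1) hs'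
    exact ⟨y, s, h1, h2, hsy, hs, fun e => hq (e ▸ h1), he ▸ hy'⟩
  obtain ⟨q0, hq0⟩ := h.exists_off
  obtain ⟨y0, s, ha1, ha2, ha3, hs, hy0, hpres0⟩ := haxis q0 hq0
  have hslope : ∀ q, ¬ Inc P₁ P₂ q (pt0 P₂) → ∀ y, Inc P₁ P₂ q y → Inc P₁ P₂ s y →
      Inc P₁ P₂ (σ q) y := by
    intro q hq y hqy hsy
    obtain ⟨y', s', b1, b2, b3, hs', hy', hpres'⟩ := haxis q hq
    by_cases hss : s' = s
    · subst hss
      have : y' = y := h.line_unique (fun e => hq (by rw [e]; exact hs)) b1 b3 hqy hsy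
      exact this ▸ b2
    exfalso
    have hne : y' ≠ y0 := fun e => hy0 (h.line_unique hss (e ▸ b3) ha3 hs' hs)
    obtain ⟨r, hr1, hr2⟩ := h.meet hne
    by_cases hr : Inc P₁ P₂ r (pt0 P₂)
    · have e1 : r = s' := by
        by_contra e'
        exact hy' (h.line_unique e' hr1 b3 hr hs')
      have e2 : r = s := by
        by_contra e'
        exact hy0 (h.line_unique e' hr2 ha3 hr hs)
      exact hss (e1.symm.trans e2)
    · exact hne (h.line_unique (hfree r hr) (hpres' r hr1) hr1 (hpres0 r hr2) hr2)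
  obtain ⟨v, hv, hv0⟩ := h.regular hq0 (hoff q0 hq0)
  have hpen : ∀ y, Inc P₁ P₂ s y → v • y = y := h.fix_pencil hv hs ha3 hy0
    ((h.stab_line_iff hv hq0 hs ha1 ha3).2 (by rw [hv0]; exact ha2))
  have hstep : ∀ a q, ¬ Inc P₁ P₂ a (pt0 P₂) → σ a = v • a → ¬ Inc P₁ P₂ q (pt0 P₂) →
      ∀ M, Inc P₁ P₂ q M → Inc P₁ P₂ s M → ¬ Inc P₁ P₂ a M → σ q = v • q := by
    intro a q ha hva hq M hqM hsM haM
    obtain ⟨N, haN, hqN⟩ := h.join (x := a) (x' := q) (fun e => haM (e ▸ hqM))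
    obtain ⟨t, ht, htN⟩ := h.exists_meet_base N
    obtain ⟨N', hN'⟩ := hline N
    have c1 := hN' a haN
    have c2 := hN' t htN
    rw [hfix t ht] at c2
    have d1 := haN.smul v
    rw [← hva] at d1
    have d2 := htN.smul v
    rw [h.fix_base hv ht] at d2
    have heq : N' = v • N := h.line_unique (fun e => hoff a ha (by rw [e]; exact ht)) c1 c2 d1 d2
    have hvM : v • M = M := hpen M hsM
    by_contra hne
    have hMN : v • N = M := h.line_unique hne (heq ▸ hN' q hqN) (hqN.smul v)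
      (hslope q hq M hqM hsM) (by rw [← hvM]; exact hqM.smul v)
    apply haM
    have := haN.smul v
    rw [hMN, ← hvM, inc_smul_iff] at this
    exact this
  obtain ⟨q1, hq1, hq1y⟩ : ∃ q, ¬ Inc P₁ P₂ q (pt0 P₂) ∧ ¬ Inc P₁ P₂ q y0 := by
    by_contra hall
    push Not at hall
    have := Set.ncard_le_ncard (s := {x | ¬ Inc P₁ P₂ x (pt0 P₂)}) (t := {x | Inc P₁ P₂ x y0})
      (fun x hx => hall x hx) (Set.toFinite _)
    rw [h.ncard_off, h.ncard_line] at this
    norm_num at this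
  obtain ⟨M1, e1, e2⟩ := h.join (x := q1) (x' := s) (fun e => hq1 (e ▸ hs))
  have h01 : ¬ Inc P₁ P₂ q0 M1 := fun e => hq1y
    (h.line_unique (fun e' => hq0 (by rw [e']; exact hs)) e e2 ha1 ha3 ▸ e1)
  have hv1 : σ q1 = v • q1 := hstep q0 q1 hq0 hv0.symm hq1 M1 e1 e2 h01
  refine ⟨v, hv, fun q => ?_⟩
  by_cases hq : Inc P₁ P₂ q (pt0 P₂)
  · rw [hfix q hq, h.fix_base hv hq]
  obtain ⟨M, f1, f2⟩ := h.join (x := q) (x' := s) (fun e => hq (e ▸ hs))
  by_cases hM : Inc P₁ P₂ q0 M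
  · refine hstep q1 q hq1 hv1 hq M f1 f2 fun e => hq1y ?_
    exact h.line_unique (fun e' => hq0 (by rw [e']; exact hs)) hM f2 ha1 ha3 ▸ e
  · exact hstep q0 q hq0 hv0.symm hq M f1 f2 hM

end Parab

end

/-- Two simple groups with such parabolic subgroups are isomorphic. -/
theorem nonempty_mulEquiv_of_parab {G : Type u} [Group G] [Finite G] [IsSimpleGroup G]
    {G' : Type v} [Group G'] [Finite G'] [IsSimpleGroup G']
    {P₁ P₂ V₁ V₂ : Subgroup G} (h : Parab P₁ P₂ V₁ V₂)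
    {Q₁ Q₂ W₁ W₂ : Subgroup G'} (h' : Parab Q₁ Q₂ W₁ W₂) : Nonempty (G ≃* G') := by
  classical
  obtain ⟨ψ, hψ1, hψ2⟩ := h.exists_chart
  obtain ⟨ψ', hψ1', hψ2'⟩ := h'.exists_chart
  let Ψ : G ⧸ P₁ ≃ G' ⧸ Q₁ := ψ.symm.trans ψ'
  have hto : ∀ y, ∃ y', ∀ x, Inc P₁ P₂ x y ↔ Inc Q₁ Q₂ (Ψ x) y' := by
    intro y
    obtain ⟨L, hL⟩ := hψ1 y
    obtain ⟨y', hy'⟩ := hψ2' L
    exact ⟨y', fun x => by
      rw [show Ψ x = ψ' (ψ.symm x) from rfl, hy', ← hL, Equiv.apply_symm_apply]⟩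
  have hfrom : ∀ y', ∃ y, ∀ x, Inc P₁ P₂ x y ↔ Inc Q₁ Q₂ (Ψ x) y' := by
    intro y'
    obtain ⟨L, hL⟩ := hψ1' y'
    obtain ⟨y, hy⟩ := hψ2 L
    exact ⟨y, fun x => by
      rw [show Ψ x = ψ' (ψ.symm x) from rfl, hL, ← hy, Equiv.apply_symm_apply]⟩
  let S : Subgroup G :=
    { carrier := {g | ∃ g' : G', ∀ x, Ψ (g • x) = g' • Ψ x}
      one_mem' := ⟨1, fun x => by simp⟩
      mul_mem' := by
        rintro a b ⟨a', ha⟩ ⟨b', hb⟩
        exact ⟨a' * b', fun x => by rw [mul_smul, mul_smul, ha, hb]⟩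
      inv_mem' := by
        rintro a ⟨a', ha⟩
        refine ⟨a'⁻¹, fun x => ?_⟩
        rw [eq_inv_smul_iff, ← ha, smul_inv_smul] }
  have hV : ∀ v ∈ V₂, ∀ k : G, k * v * k⁻¹ ∈ S := by
    intro v hv k
    by_cases hv1 : v = 1
    · subst hv1; simp
    obtain ⟨y', hy'⟩ := hto (k • pt0 P₂)
    obtain ⟨g', rfl⟩ := QuotientGroup.mk_surjective y'
    set c := k * v * k⁻¹ with hc
    let τ : G' ⧸ Q₁ → G' ⧸ Q₁ := fun z => g'⁻¹ • Ψ (c • Ψ.symm (g' • z))
    have hbase : ∀ z, Inc Q₁ Q₂ z (pt0 Q₂) ↔ Inc P₁ P₂ (k⁻¹ • Ψ.symm (g' • z)) (pt0 P₂) := by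
      intro z
      rw [← inc_smul_iff g', smul_pt0]
      conv_lhs => rw [← Ψ.apply_symm_apply (g' • z)]
      rw [← hy', ← inc_smul_iff k⁻¹, inv_smul_smul]
    have hE : ∃ w ∈ W₂, ∀ z, τ z = w • z := by
      refine h'.elation ?_ ?_ ?_ ?_
      · exact (MulAction.injective g'⁻¹).comp (Ψ.injective.comp
          ((MulAction.injective c).comp (Ψ.symm.injective.comp (MulAction.injective g'))))
      · intro y
        obtain ⟨a, ha⟩ := hfrom (g' • y)
        obtain ⟨b, hb⟩ := hto (c • a)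
        refine ⟨g'⁻¹ • b, fun z hz => ?_⟩
        refine Inc.smul ?_ g'⁻¹
        rw [← hb]
        refine Inc.smul ?_ c
        rw [ha, Equiv.apply_symm_apply]
        exact hz.smul g'
      · intro z hz
        show g'⁻¹ • Ψ (c • Ψ.symm (g' • z)) = z
        rw [hc, mul_smul, mul_smul, h.fix_base hv ((hbase z).1 hz), smul_inv_smul, Equiv.apply_symm_apply,
          inv_smul_smul]
      · intro z hz he
        apply hv1
        refine h.semiregular hv (fun e => hz ((hbase z).2 e)) ?_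
        have e1 : c • Ψ.symm (g' • z) = Ψ.symm (g' • z) := Ψ.injective (by
          rw [Equiv.apply_symm_apply, ← inv_smul_eq_iff]; exact he)
        rw [hc, mul_smul, mul_smul] at e1
        have := congrArg (k⁻¹ • ·) e1
        simpa using this
    obtain ⟨w, hw, hτ⟩ := hE
    refine ⟨g' * w * g'⁻¹, fun x => ?_⟩
    have := hτ (g'⁻¹ • Ψ x)
    simp only [τ, smul_inv_smul, Equiv.symm_apply_apply] at this
    rw [mul_smul (g' * w), mul_smul g' w, ← this, smul_inv_smul]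
  have hS : S = ⊤ := by
    have hle : Subgroup.normalClosure (V₂ : Set G) ≤ S := by
      show Subgroup.closure (Group.conjugatesOfSet (V₂ : Set G)) ≤ S
      rw [Subgroup.closure_le]
      intro a ha
      obtain ⟨v, hv, hconj⟩ := Group.mem_conjugatesOfSet_iff.1 ha
      obtain ⟨k, rfl⟩ := isConj_iff.1 hconj
      exact hV v hv k
    rcases IsSimpleGroup.eq_bot_or_eq_top_of_normal (Subgroup.normalClosure (V₂ : Set G)) inferInstance with e | e
    · exfalso
      have hle2 : V₂ ≤ ⊥ := e ▸ Subgroup.le_normalClosure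
      have := h.card_v₂
      rw [le_bot_iff.1 hle2, Subgroup.card_bot] at this
      norm_num at this
    · exact eq_top_iff.2 (e ▸ hle)
  have hall : ∀ g : G, ∃ g' : G', ∀ x, Ψ (g • x) = g' • Ψ x := fun g =>
    (show g ∈ S by rw [hS]; exact Subgroup.mem_top g)
  choose f hf using hall
  have huniq : ∀ a b : G', (∀ x, a • Ψ x = b • Ψ x) → a = b := fun a b hab =>
    (inv_mul_eq_one.1 (h'.faithful (g := b⁻¹ * a) (fun z => by
      rw [mul_smul, ← Ψ.apply_symm_apply z, hab, inv_smul_smul]))).symm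
  let φ : G →* G' := MonoidHom.mk' f (fun a b => huniq _ _ (fun x => by
    rw [← hf, mul_smul, mul_smul, hf, hf]))
  have hinj : Function.Injective φ := by
    rw [injective_iff_map_eq_one]
    intro g hg
    refine h.faithful fun x => Ψ.injective ?_
    rw [hf, show f g = 1 from hg, one_smul]
  exact ⟨MulEquiv.ofBijective φ ((Nat.bijective_iff_injective_and_card φ).2
    ⟨hinj, by rw [h.card_G, h'.card_G]⟩)⟩

end CfsgLib.PSL34
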